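import Cfsg.Agent.R2.F4M.Base

/-!
# Identities of the 27-dimensional algebra which use the unit (helper20)

* `cr_sh_self` : `x × x^# = (t(x) s(x) - N(x)) 1 - s(x) x - t(x) x^#`;
* `cr_cr_self`, `cr3` : its linearizations.
-/

set_option autoImplicit false
set_option linter.unusedSimpArgs false

namespace Cfsg.Agent.R2.F4P

open Cfsg Cfsg.Lie Module
open Cfsg.Agent.ChevalleyStructure.E6Min.Tables Cfsg.Agent.ChevalleyStructure.E6Min.Basic
open Cfsg.Agent.H952.F4 Cfsg.Agent.H952.F4.Jord

universe u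

section ring

variable {R : Type u} [CommRing R]

set_option maxHeartbeats 4000000 in
theorem cr_sh_self (x : I27 → R) : cr x (sh x) =
    (tr1 x * tr1 (sh x) - cubicT x) • u0 R - tr1 (sh x) • x - tr1 x • sh x := by
  unfold cr
  refine ext27 fun k i j => ?_
  fin_cases k <;> fin_cases i <;> fin_cases j <;>
    simp only [Fin.zero_eta, Fin.mk_one, Fin.reduceFinMk, Pi.smul_apply, Pi.sub_apply, Pi.add_apply, smul_eq_mul, N_eq,
      Fin.sum_univ_three, tr1, Matrix.trace, Matrix.diag, mat3, Matrix.of_apply, u0, Fin.isValue, and_self, and_true,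
      and_false, false_and, if_true, if_false, Fin.reduceEq, one_ne_zero, zero_ne_one, mul_one, mul_zero,
      sh000, sh001, sh002, sh010, sh011,
      sh012, sh020, sh021, sh022, sh100, sh101, sh102, sh110, sh111, sh112, sh120, sh121, sh122, sh200, sh201, sh202,
      sh210, sh211, sh212, sh220, sh221, sh222] <;> ring

theorem tr1_map {S : Type u} [CommRing S] (f : R →+* S) (x : I27 → R) : tr1 (fun a => f (x a)) = f (tr1 x) := by
  simp only [tr1, Matrix.trace, Matrix.diag, mat3, Matrix.of_apply, map_sum]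

theorem u0_map {S : Type u} [CommRing S] (f : R →+* S) : (fun a => f (u0 R a)) = u0 S := by
  funext a
  unfold u0
  split_ifs <;> simp

theorem cst_tr1 (x : I27 → R) : tr1 (cst x) = Polynomial.C (tr1 x) := tr1_map Polynomial.C x

theorem cst_u0 : cst (u0 R) = u0 (Polynomial R) := u0_map Polynomial.C

open Polynomial in
/-- the linearization -/
theorem cr_cr_self (y v : I27 → R) : cr y (cr y v) + cr v (sh y) =
    (tr1 y * tr1 (cr y v) + tr1 v * tr1 (sh y) - tf (sh y) v) • u0 R - tr1 (sh y) • v - tr1 (cr y v) • y -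
      tr1 y • cr y v - tr1 v • sh y := by
  have h := cr_sh_self (cst y + (X : R[X]) • cst v)
  simp only [sh_add, N_add, sh_smul, cst_sh, cr_smul_right, cst_cr, cr_add_left, cr_smul_left, cr_add_right, N_smul,
    cst_N, tf_smul_right, tf_smul_left, cst_tf, tr1_add, tr1_smul, cst_tr1, ← cst_u0] at h
  have := (polar (A0 := cr y (sh y)) (A1 := cr y (cr y v) + cr v (sh y)) (A2 := cr y (sh v) + cr v (cr y v))
    (A3 := cr v (sh v)) (A4 := 0)
    (B0 := (tr1 y * tr1 (sh y) - cubicT y) • u0 R - tr1 (sh y) • y - tr1 y • sh y)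
    (B1 := (tr1 y * tr1 (cr y v) + tr1 v * tr1 (sh y) - tf (sh y) v) • u0 R - tr1 (sh y) • v - tr1 (cr y v) • y -
      tr1 y • cr y v - tr1 v • sh y)
    (B2 := (tr1 y * tr1 (sh v) + tr1 v * tr1 (cr y v) - tf y (sh v)) • u0 R - tr1 (cr y v) • v - tr1 (sh v) • y -
      tr1 y • sh v - tr1 v • cr y v)
    (B3 := (tr1 v * tr1 (sh v) - cubicT v) • u0 R - tr1 (sh v) • v - tr1 v • sh v) (B4 := 0) ?_).1
  · exact this
  · refine Eq.trans ?_ (h.trans ?_)
    · funext a
      simp only [Pi.add_apply, Pi.smul_apply, smul_eq_mul, map_add, Pi.zero_apply, map_zero, cst_apply]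
      ring
    · funext a
      simp only [Pi.add_apply, Pi.sub_apply, Pi.smul_apply, smul_eq_mul, map_add, map_sub, map_mul, Pi.zero_apply,
        map_zero, cst_apply]
      ring

/-- the full linearization -/
theorem cr3 (x y v : I27 → R) : cr x (cr y v) + cr y (cr x v) + cr v (cr x y) =
    (tr1 x * tr1 (cr y v) + tr1 y * tr1 (cr x v) + tr1 v * tr1 (cr x y) - tf (cr x y) v) • u0 R -
      tr1 (cr x y) • v - tr1 (cr x v) • y - tr1 (cr y v) • x - tr1 x • cr y v - tr1 y • cr x v - tr1 v • cr x y := by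
  have h := cr_cr_self (x + y) v
  have hx := cr_cr_self x v
  have hy := cr_cr_self y v
  simp only [sh_add, cr_add_left, cr_add_right, tr1_add, tf_add_left] at h
  linear_combination (norm := module) h - hx - hy

end ring

end Cfsg.Agent.R2.F4P
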