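import Cfsg.Agent.R2.F4M.Base
import Cfsg.Agent.H952.F4.Common

/-!
# (C2): two vectors of the 27-dimensional module have a common stabilizer `≠ 1` in `F₄(q)`, all `q` (helper20)
-/

set_option autoImplicit false
set_option linter.unusedSimpArgs false

namespace Cfsg.Agent.R2.F4P

open Cfsg Cfsg.Lie Module
open Cfsg.Agent.ChevalleyStructure Cfsg.Agent.ChevalleyStructure.Elts
open Cfsg.Agent.ChevalleyStructure.E6Min.Tables Cfsg.Agent.ChevalleyStructure.E6Min.Basic
open Cfsg.Agent.H952.F4 Cfsg.Agent.H952.F4.Jord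
open Cfsg.Agent.R2.F4M
open Cfsg.Agent.H952.F4.Fix (Oth card_oth)

universe u

theorem sub_eq_sh {F : Type u} [Field F] {y z : I27 → F} (h : ∀ x : I27, x ≠ (0, 0, 0) → x ≠ (0, 0, 1) →
    x ≠ (0, 1, 0) → y x = z x) (ht : tr1 y = tr1 z) : y (0, 0, 0) = z (0, 0, 0) ∧
      tr1 (sh y) - tr1 (sh z) = z (0, 0, 1) * z (0, 1, 0) - y (0, 0, 1) * y (0, 1, 0) := by
  have h011 := h (0, 1, 1) (by decide) (by decide) (by decide)
  have h022 := h (0, 2, 2) (by decide) (by decide) (by decide)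
  have h0 : y (0, 0, 0) = z (0, 0, 0) := by
    simp only [tr1, Matrix.trace, Fin.sum_univ_three, Matrix.diag_apply] at ht
    change y (0, 0, 0) + y (0, 1, 1) + y (0, 2, 2) = z (0, 0, 0) + z (0, 1, 1) + z (0, 2, 2) at ht
    rw [h011, h022] at ht
    linear_combination ht
  refine ⟨h0, ?_⟩
  have h002 := h (0, 0, 2) (by decide) (by decide) (by decide)
  have h012 := h (0, 1, 2) (by decide) (by decide) (by decide)
  have h020 := h (0, 2, 0) (by decide) (by decide) (by decide)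
  have h021 := h (0, 2, 1) (by decide) (by decide) (by decide)
  have h1 : ∀ i j, y (1, i, j) = z (1, i, j) := fun i j => h _ (by simp) (by simp) (by simp)
  have h2 : ∀ i j, y (2, i, j) = z (2, i, j) := fun i j => h _ (by simp) (by simp) (by simp)
  simp only [tr1, Matrix.trace, Matrix.diag, mat3, Matrix.of_apply, Fin.sum_univ_three, sh000, sh011, sh022, h1, h2, h0,
    h011, h022, h002, h012, h020, h021]
  ring

/-- the number of vectors with given invariants -/
theorem card_le_sh {F : Type u} [Field F] [Finite F] (t s : F) :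
    Nat.card {y : I27 → F // tr1 y = t ∧ tr1 (sh y) = s} ≤ Nat.card F ^ 24 * (2 * Nat.card F - 1) := by
  classical
  let _ : Fintype F := Fintype.ofFinite F
  let f : {y : I27 → F // tr1 y = t ∧ tr1 (sh y) = s} → (Oth → F) × (F ⊕ {u : F // u ≠ 0}) := fun y =>
    (fun x => y.1 x.1, if h : y.1 (0, 0, 1) = 0 then Sum.inl (y.1 (0, 1, 0)) else Sum.inr ⟨y.1 (0, 0, 1), h⟩)
  have hf : Function.Injective f := by
    rintro ⟨y, hy1, hy2⟩ ⟨z, hz1, hz2⟩ h
    have h1 : (fun x : Oth => y x.1) = fun x => z x.1 := congrArg Prod.fst h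
    have h3 : (if h : y (0, 0, 1) = 0 then Sum.inl (y (0, 1, 0)) else Sum.inr ⟨y (0, 0, 1), h⟩ :
        F ⊕ {u : F // u ≠ 0}) =
        (if h : z (0, 0, 1) = 0 then Sum.inl (z (0, 1, 0)) else Sum.inr ⟨z (0, 0, 1), h⟩) := congrArg Prod.snd h
    have h4 : ∀ x : I27, x ≠ (0, 0, 0) → x ≠ (0, 0, 1) → x ≠ (0, 1, 0) → y x = z x := fun x a b c =>
      congrFun h1 ⟨x, a, b, c⟩
    obtain ⟨h5, h6⟩ := sub_eq_sh h4 (hy1.trans hz1.symm)
    rw [hy2, hz2, sub_self] at h6
    have h7 : y (0, 0, 1) * y (0, 1, 0) = z (0, 0, 1) * z (0, 1, 0) := by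
      linear_combination h6
    have h8 : y (0, 0, 1) = z (0, 0, 1) ∧ y (0, 1, 0) = z (0, 1, 0) := by
      by_cases hy : y (0, 0, 1) = 0
      · by_cases hz : z (0, 0, 1) = 0
        · rw [dif_pos hy, dif_pos hz] at h3
          exact ⟨hy.trans hz.symm, Sum.inl_injective h3⟩
        · rw [dif_pos hy, dif_neg hz] at h3
          exact absurd h3 (by simp)
      · by_cases hz : z (0, 0, 1) = 0
        · rw [dif_neg hy, dif_pos hz] at h3
          exact absurd h3 (by simp)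
        · rw [dif_neg hy, dif_neg hz] at h3
          have h9 : y (0, 0, 1) = z (0, 0, 1) := congrArg Subtype.val (Sum.inr_injective h3)
          refine ⟨h9, ?_⟩
          rw [h9] at h7
          exact mul_left_cancel₀ hz h7
    apply Subtype.ext
    funext x
    by_cases a : x = (0, 0, 0)
    · rw [a]; exact h5
    by_cases b : x = (0, 0, 1)
    · rw [b]; exact h8.1
    by_cases c : x = (0, 1, 0)
    · rw [c]; exact h8.2
    exact h4 x a b c
  have h1 := Nat.card_le_card_of_injective f hf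
  refine h1.trans (le_of_eq ?_)
  have h2 : Nat.card {u : F // u ≠ 0} = Nat.card F - 1 := by
    rw [Nat.card_eq_fintype_card, Nat.card_eq_fintype_card, Fintype.card_subtype_compl, Fintype.card_subtype_eq]
  have hq : 2 ≤ Nat.card F := Finite.one_lt_card
  rw [Nat.card_prod, Nat.card_fun, Nat.card_eq_fintype_card (α := Oth), card_oth, Nat.card_sum, h2]
  congr 1
  omega

theorem num_aux {q : ℕ} (hq : 2 ≤ q) : 4244832 * ((2 * q - 1) * (2 * q - 1)) < 3000000 * q ^ 4 := by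
  obtain ⟨r, rfl⟩ : ∃ r, q = r + 2 := ⟨q - 2, by omega⟩
  have : 2 * (r + 2) - 1 = 2 * r + 3 := by omega
  rw [this]
  have e1 : 4244832 * ((2 * r + 3) * (2 * r + 3)) = 16979328 * r ^ 2 + 50937984 * r + 38203488 := by ring
  have e2 : 3000000 * (r + 2) ^ 4 = 3000000 * r ^ 4 + 24000000 * r ^ 3 + 72000000 * r ^ 2 + 96000000 * r + 48000000 := by
    ring
  rw [e1, e2]
  nlinarith [Nat.zero_le (r ^ 2), Nat.zero_le (r ^ 3), Nat.zero_le (r ^ 4), Nat.zero_le r]

theorem card_gt2 {F : Type u} [Field F] [Finite F] :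
    Nat.card F ^ 24 * (2 * Nat.card F - 1) * (Nat.card F ^ 24 * (2 * Nat.card F - 1)) <
      Nat.card ↥(chevF4.group F) := by
  classical
  let _ : Fintype F := Fintype.ofFinite F
  have hq : 2 ≤ Nat.card F := Finite.one_lt_card
  rw [Cfsg.Agent.S1062.result (F := F) (q := Nat.card F) (Nat.card_eq_fintype_card).symm]
  set q := Nat.card F with hqdef
  have e1 : 3 * q ^ 2 ≤ 4 * (q ^ 2 - 1) := by
    have : 4 ≤ q ^ 2 := by nlinarith
    omega
  have hp : ∀ k, 6 ≤ k → 100 * q ^ k ≤ 102 * (q ^ k - 1) := by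
    intro k hk
    have h3 : 64 ≤ q ^ k := by
      calc 64 ≤ 2 ^ 6 := by norm_num
        _ ≤ 2 ^ k := Nat.pow_le_pow_right (by norm_num) hk
        _ ≤ q ^ k := Nat.pow_le_pow_left hq k
    omega
  have h6 := hp 6 le_rfl
  have h8 := hp 8 (by norm_num)
  have h12 := hp 12 (by norm_num)
  have key : (3 * q ^ 2) * (100 * q ^ 6) * (100 * q ^ 8) * (100 * q ^ 12) ≤
      (4 * (q ^ 2 - 1)) * (102 * (q ^ 6 - 1)) * (102 * (q ^ 8 - 1)) * (102 * (q ^ 12 - 1)) :=
    Nat.mul_le_mul (Nat.mul_le_mul (Nat.mul_le_mul e1 h6) h8) h12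
  set A := (q ^ 2 - 1) * (q ^ 6 - 1) * (q ^ 8 - 1) * (q ^ 12 - 1) with hA
  have key2 : 3000000 * q ^ 28 ≤ 4244832 * A := by
    calc 3000000 * q ^ 28 = (3 * q ^ 2) * (100 * q ^ 6) * (100 * q ^ 8) * (100 * q ^ 12) := by ring
      _ ≤ _ := key
      _ = 4244832 * A := by rw [hA]; ring
  have h5 := num_aux hq
  have h4 : q ^ 24 * ((2 * q - 1) * (2 * q - 1)) < A := by
    have h7 : 4244832 * (q ^ 24 * ((2 * q - 1) * (2 * q - 1))) < 4244832 * A := by
      calc 4244832 * (q ^ 24 * ((2 * q - 1) * (2 * q - 1))) = q ^ 24 * (4244832 * ((2 * q - 1) * (2 * q - 1))) := by ring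
        _ < q ^ 24 * (3000000 * q ^ 4) := Nat.mul_lt_mul_of_pos_left h5 (by positivity)
        _ = 3000000 * q ^ 28 := by ring
        _ ≤ _ := key2
    exact Nat.lt_of_mul_lt_mul_left h7
  calc q ^ 24 * (2 * q - 1) * (q ^ 24 * (2 * q - 1)) = q ^ 24 * (q ^ 24 * ((2 * q - 1) * (2 * q - 1))) := by ring
    _ < q ^ 24 * A := Nat.mul_lt_mul_of_pos_left h4 (by positivity)
    _ = q ^ 24 * (q ^ 2 - 1) * (q ^ 6 - 1) * (q ^ 8 - 1) * (q ^ 12 - 1) := by rw [hA]; ring

/-- **(C2)** : any two vectors have a common nontrivial stabilizer -/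
theorem common_stab {F : Type u} [Field F] [Finite F] (a b : I27 → F) :
    ∃ g : ↥(chevF4.group F), g ≠ 1 ∧ Jr F g a = a ∧ Jr F g b = b := by
  classical
  by_contra hcon
  push Not at hcon
  let f : ↥(chevF4.group F) → {y : I27 → F // tr1 y = tr1 a ∧ tr1 (sh y) = tr1 (sh a)} ×
      {y : I27 → F // tr1 y = tr1 b ∧ tr1 (sh y) = tr1 (sh b)} := fun g =>
    (⟨Jr F g a, Jr_tr g a, by rw [Jr_sh, Jr_tr]⟩, ⟨Jr F g b, Jr_tr g b, by rw [Jr_sh, Jr_tr]⟩)
  have hf : Function.Injective f := by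
    intro g g' h
    have h1 : Jr F g a = Jr F g' a := congrArg (fun z => (z.1 : I27 → F)) h
    have h3 : Jr F g b = Jr F g' b := congrArg (fun z => (z.2 : I27 → F)) h
    by_contra hne
    refine hcon (g'⁻¹ * g) (fun h0 => hne (inv_mul_eq_one.1 h0).symm) ?_ ?_
    · rw [Jr_mul, h1, Jr_inv_apply]
    · rw [Jr_mul, h3, Jr_inv_apply]
  have h1 := Nat.card_le_card_of_injective f hf
  rw [Nat.card_prod] at h1
  have h3 := (h1.trans (Nat.mul_le_mul (card_le_sh _ _) (card_le_sh _ _)))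
  exact absurd (card_gt2 (F := F)) (not_lt.2 h3)

end Cfsg.Agent.R2.F4P
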