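import Cfsg.Agent.R2.F4P.Mn6
import Cfsg.Agent.TwoFusion.SLTwoFacts

/-!
# S5931, p = 2, `J_k^L = k u0`: contradiction (helper20)

* `p2_fix` : **`Cfg 2 a b H φ` and `FixU` are contradictory**.
-/

set_option autoImplicit false
set_option linter.unusedSectionVars false

namespace Cfsg.Agent.R2.F4P

open Module Matrix
open Cfsg.Lie
open Cfsg.Agent.ChevalleyStructure.E6Min.Basic (Zgrp)
open Cfsg.Agent.H943.SL2Rel Cfsg.Agent.H943.SL2Mod Cfsg.Agent.H943.RepAdd
open Cfsg.Agent.R2.H28.SL2 Cfsg.Agent.R2.SL2 Cfsg.Agent.R2.GEO Cfsg.Agent.R2.H6P2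
open Cfsg.Agent.H952.F4 (sh cr tf tr1 u0)
open Cfsg.Agent.H952.F4.Jord
open Cfsg.Agent.H952.F4.FixV (W0 mem_W0 finrank_W0)
open Cfsg.Agent.H163.E6 (V V' TS)
open Cfsg.Agent.H65.E6Emb
open Cfsg.Agent.R2.F4M Cfsg.Agent.R2.F4N
open Cfsg.Agent.R2.H9.E6 (pq pq_surjective)

universe u v w

section cfg

variable {F : Type u} [Field F] [Fintype F] {K : Type w} [Field K] [Fintype K] {a b : ℕ}
  {H : Subgroup ↥(chevF4.group F)} {φ : ProjectiveSpecialLinearGroup (Fin 2) K →* ↥(chevF4.group F)}
variable {k : Type u} [Field k] [Algebra F k] [Algebra.IsAlgebraic F k]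
variable [CharP k 2] [DecidableEq k] [DecidableEq K] [CharP K 2] [IsAlgClosed k] (ι : K →+* k)

/-- the final argument: a white rational module of dimension two -/
theorem final_two (hcfg : Cfg 2 a b H φ) (hJ : JL (chi (algebraMap F k) ((zt F).comp φ))) (hK : Fintype.card K = 2 ^ a)
    (hF : Fintype.card F = 2 ^ b)
    (hW4 : ∀ W : Submodule k (I27 → k), Stb (RR (chi (algebraMap F k) ((zt F).comp φ))) W → finrank k W = 4 →
      (∀ w ∈ W, sh w = 0) → False)
    {n : ℕ} (hna : n < a) {x y : I27 → k} (h : TTwo (V k) (chi (algebraMap F k) ((zt F).comp φ)) (ka ι n) x y)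
    (hmin : MinW (chi (algebraMap F k) ((zt F).comp φ)) (Submodule.span k {x, y}))
    (hx : Ph b x = x) (hy : Ph b y = y) : False := by
  set χ := chi (algebraMap F k) ((zt F).comp φ) with hχ
  have hd2 := (h.toTwo.isV ι hK hna).1
  have hph : ∀ v ∈ Submodule.span k {x, y}, Ph b v ∈ Submodule.span k {x, y} := by
    refine span_Ph ?_
    intro z hz
    rcases hz with hz | hz
    · rw [hz, hx]
      exact Submodule.subset_span (Or.inl rfl)
    · rw [Set.mem_singleton_iff.1 hz, hy]
      exact Submodule.subset_span (Or.inr rfl)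
  obtain ⟨W, hW⟩ := exists_ext (fr b) (algebraMap F k) (U := Submodule.span k {x, y})
    (fun x hx => mem_range_of_pow (algebraMap F k) (by rw [hF, ← fr_apply, hx])) hph
  have hWd : finrank F W = 2 := by
    have h1 : finrank F W = finrank k (Submodule.span k {x, y}) := by rw [← hW, finrank_ext]
    rw [h1, hd2]
  have hmap : ∀ (g : ↥(chevF4.group F)) (v : I27 → F),
      Av k g (fun i => algebraMap F k (v i)) = fun i => algebraMap F k (Jr F g v i) := by
    intro g v
    exact V_emb (algebraMap F k) (zt F g) v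
  have hst : Hst H W := by
    intro m hm v hv
    obtain ⟨z, hz⟩ := h_inner ι hcfg hJ hK hW4 hna h hmin hm
    obtain ⟨g, rfl⟩ := pq_surjective z
    rw [← mem_ext_iff (f := algebraMap F k), hW, ← hmap, ← hz]
    exact h.stb g _ (by rw [← hW]; exact mem_ext_of_mem hv)
  have hpr : Pr W := pr_of_finrank (by omega) (by omega)
  -- `L` acts nontrivially
  have hact : ∃ s, ∃ v ∈ W, Jr F (φ s) v ≠ v := by
    by_contra hcon
    push Not at hcon
    have h1 : ∀ v ∈ ext (algebraMap F k) W, RR χ (u 1) v = v := by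
      intro v hv
      have h2 : ext (algebraMap F k) W ≤ LinearMap.ker (RR χ (u 1) - LinearMap.id) := by
        refine ext_le fun v hv => ?_
        rw [LinearMap.mem_ker, LinearMap.sub_apply, LinearMap.id_apply, sub_eq_zero]
        have h3 : RR χ (u 1) (fun i => algebraMap F k (v i)) = _ := hmap (φ (pq (u 1))) v
        rw [h3, hcon (pq (u 1)) v hv]
      have h3 := h2 hv
      rw [LinearMap.mem_ker, LinearMap.sub_apply, LinearMap.id_apply, sub_eq_zero] at h3
      exact h3
    rw [hW] at h1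
    have h2 := h1 y (Submodule.subset_span (Or.inr rfl))
    rw [(Two.u_act h.toTwo 1).2, map_one, one_smul] at h2
    exact h.ne (by simpa using h2)
  -- a common stabilizer
  let B := Module.finBasisOfFinrankEq F W hWd
  obtain ⟨g, hg1, hg2, hg3⟩ := common_stab (B 0 : I27 → F) (B 1)
  apply hg1
  refine hcfg.kc hst hpr hact fun v hv => ?_
  have h1 : (⟨v, hv⟩ : W) = B.repr ⟨v, hv⟩ 0 • B 0 + B.repr ⟨v, hv⟩ 1 • B 1 := by
    conv_lhs => rw [← B.sum_repr ⟨v, hv⟩]
    rw [Fin.sum_univ_two]
  have h2 := congrArg Subtype.val h1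
  change v = B.repr ⟨v, hv⟩ 0 • (B 0 : I27 → F) + B.repr ⟨v, hv⟩ 1 • (B 1 : I27 → F) at h2
  rw [h2, map_add, map_smul, map_smul, hg2, hg3]

end cfg

/-- an embedding of a finite field of characteristic 2 -/
theorem exists_iota' (K : Type v) [Field K] [Finite K] [CharP K 2] (k : Type u) [Field k] [CharP k 2] [IsAlgClosed k] :
    Nonempty (K →+* k) := by
  have hfact : Fact (Nat.Prime 2) := ⟨Nat.prime_two⟩
  let _ := ZMod.algebra K 2
  let _ := ZMod.algebra k 2
  have h1 : Module.Finite (ZMod 2) K := Module.Finite.of_finite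
  have h2 : Algebra.IsAlgebraic (ZMod 2) K := Algebra.IsAlgebraic.of_finite (ZMod 2) K
  exact ⟨(IsAlgClosed.lift (R := ZMod 2) (S := K) (M := k)).toRingHom⟩

/-- **p = 2 is impossible, if `L` has only the obvious fixed vectors over the algebraic closure** -/
theorem p2_fix {F : Type u} [Field F] [Fintype F] {K : Type w} [Field K] [Fintype K] {a b : ℕ}
    {H : Subgroup ↥(chevF4.group F)} {φ : ProjectiveSpecialLinearGroup (Fin 2) K →* ↥(chevF4.group F)}
    (h : Cfg 2 a b H φ) (hfix : FixU (AlgebraicClosure F) φ) : False := by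
  classical
  have hfact : Fact (Nat.Prime 2) := ⟨Nat.prime_two⟩
  have hcF := h.charF
  have hcK := h.charK
  have hck : CharP (AlgebraicClosure F) 2 :=
    charP_of_injective_algebraMap (algebraMap F (AlgebraicClosure F)).injective 2
  obtain ⟨ι⟩ := exists_iota' K (AlgebraicClosure F)
  have ha0 : 0 < a := h.ha
  have h7 := h.seven
  have hJ := jl hfix
  set χ := chi (algebraMap F (AlgebraicClosure F)) ((zt F).comp φ) with hχ
  have hW4 : ∀ W : Submodule (AlgebraicClosure F) (I27 → AlgebraicClosure F), Stb (RR χ) W →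
      finrank (AlgebraicClosure F) W = 4 → (∀ w ∈ W, sh w = 0) → False := by
    intro W hW hd hs
    refine white_four h hfix hd hs fun z w hw => ?_
    obtain ⟨g, rfl⟩ := pq_surjective z
    exact hW g w hw
  obtain ⟨W, hW, hs⟩ := exists_white ι hJ h.cardK (by omega)
  rcases hW.two_or_four ι hJ hs with hd | hd
  swap
  · exact hW4 W hW.stb hd hs
  obtain ⟨n, hn, x, y, hxy, hsp⟩ := hW.exists_two ι h.cardK hd
  have hx : x ∈ W := by rw [← hsp]; exact Submodule.subset_span (Or.inl rfl)
  have hy : y ∈ W := by rw [← hsp]; exact Submodule.subset_span (Or.inr rfl)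
  have hT : TTwo (V (AlgebraicClosure F)) χ (ka ι n) x y :=
    ⟨hxy, hs x hx, hs y hy, hW.cr_zero ι hJ h.cardK (by omega) x hx y hy⟩
  have hρ : V (AlgebraicClosure F) = V (AlgebraicClosure F) ∨ V (AlgebraicClosure F) = V' (AlgebraicClosure F) :=
    Or.inl rfl
  -- the Frobenius map preserves the type
  have hb : ka ι (n + b * 1) = ka ι n := by
    by_contra hne
    have h1 := hT.ph (algebraMap F (AlgebraicClosure F)) h.cardF hρ 1
    rw [← ka_mod ι h.cardK] at h1
    refine two_types' ι hJ h.cardK hW4 hn (Nat.mod_lt _ ha0) (fun h0 => hne ?_) hT h1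
    rw [← ka_mod ι h.cardK (n + b * 1), ← h0]
  obtain ⟨x', y', h', hx', hy'⟩ := exists_ph (algebraMap F (AlgebraicClosure F)) h.cardF hρ hxy hb
  rw [Nat.mul_one] at hx' hy'
  have hd' := (h'.isV ι h.cardK hn).1
  have hle : Submodule.span (AlgebraicClosure F) {x', y'} ≤ W0 (AlgebraicClosure F) := by
    rw [Submodule.span_le]
    rintro z (hz | hz)
    · rw [hz]
      exact (mem_W0 _).2 (two_tr hJ h').1
    · rw [Set.mem_singleton_iff.1 hz]
      exact (mem_W0 _).2 (two_tr hJ h').2
  have hmin : MinW χ (Submodule.span (AlgebraicClosure F) {x', y'}) :=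
    hW.of_finrank hle h'.stb (fun h0 => by rw [h0, finrank_bot] at hd'; omega) (by omega)
  rcases white_or ι hJ h.cardK (by omega) h' hmin hd' with hT' | hT'
  · exact final_two ι h hJ h.cardK h.cardF hW4 hn hT' hmin hx' hy'
  · have hTm : TTwo (V (AlgebraicClosure F)) χ (ka ι ((n + 1) % a)) (sh x') (sh y') := by
      rw [ka_mod ι h.cardK]
      exact hT'
    have hd'' := (hTm.toTwo.isV ι h.cardK (Nat.mod_lt _ ha0)).1
    have hle' : Submodule.span (AlgebraicClosure F) {sh x', sh y'} ≤ W0 (AlgebraicClosure F) := by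
      rw [Submodule.span_le]
      rintro z (hz | hz)
      · rw [hz]
        exact (mem_W0 _).2 (two_tr hJ hTm.toTwo).1
      · rw [Set.mem_singleton_iff.1 hz]
        exact (mem_W0 _).2 (two_tr hJ hTm.toTwo).2
    have hmin' : MinW χ (Submodule.span (AlgebraicClosure F) {sh x', sh y'}) :=
      hW.of_finrank hle' hTm.toTwo.stb (fun h0 => by rw [h0, finrank_bot] at hd''; omega) (by omega)
    exact final_two ι h hJ h.cardK h.cardF hW4 (Nat.mod_lt _ ha0) hTm hmin' (by rw [← Ph_sh, hx']) (by rw [← Ph_sh, hy'])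

end Cfsg.Agent.R2.F4P
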