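import Cfsg.Agent.R2.H6P2.Mst
import Cfsg.Agent.R2.F4P.Zx2

/-!
# S5931, p = 2: a white submodule of minimal dimension (helper20)

`χ : SL₂(K) →* Zgrp k` preserving the unit; `JL χ` : the vectors fixed by `χ` are the multiples of the unit.
* `exists_white` : there is a white submodule `W ≤ J₀` with `dim W = 2 ^ n ≥ 2` and no submodule of `J₀` of smaller dimension.
-/

set_option autoImplicit false
set_option linter.unusedSectionVars false

namespace Cfsg.Agent.R2.F4P

open Module Matrix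
open Cfsg.Lie
open Cfsg.Agent.ChevalleyStructure.E6Min.Basic (Zgrp)
open Cfsg.Agent.H943.SL2Rel Cfsg.Agent.H943.SL2Mod Cfsg.Agent.H943.RepAdd
open Cfsg.Agent.R2.H28.SL2 Cfsg.Agent.R2.SL2 Cfsg.Agent.R2.GEO Cfsg.Agent.R2.H6P2
open Cfsg.Agent.H952.F4 (sh cr tf tr1 u0)
open Cfsg.Agent.H952.F4.Jord
open Cfsg.Agent.H952.F4.FixV (W0 mem_W0 finrank_W0)
open Cfsg.Agent.H163.E6 (V V' TS)

universe u v w

variable {k : Type u} [Field k] {K : Type w} [Field K]

/-- the hypotheses on `χ` -/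
structure JL (χ : SpecialLinearGroup (Fin 2) K →* ↥(Zgrp k)) : Prop where
  u : ∀ g, V k (χ g) (u0 k) = u0 k
  dual : ∀ g x, V' k (χ g) x = V k (χ g) x
  fix : ∀ v, (∀ g, V k (χ g) v = v) → ∃ c : k, v = c • u0 k

/-- the representation of `SL₂(K)` -/
noncomputable abbrev RR (χ : SpecialLinearGroup (Fin 2) K →* ↥(Zgrp k)) :
    Representation k (SpecialLinearGroup (Fin 2) K) (I27 → k) := rp (V k) χ

variable {χ : SpecialLinearGroup (Fin 2) K →* ↥(Zgrp k)}

theorem JL.sh (h : JL χ) (g : SpecialLinearGroup (Fin 2) K) (x : I27 → k) : sh (RR χ g x) = RR χ g (sh x) := by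
  rw [rp_apply, pair_sh (Or.inl ⟨rfl, rfl⟩) (χ g) x, h.dual]
  rfl

theorem JL.cr (h : JL χ) (g : SpecialLinearGroup (Fin 2) K) (x y : I27 → k) :
    cr (RR χ g x) (RR χ g y) = RR χ g (cr x y) := by
  rw [rp_apply, rp_apply, pair_cr (Or.inl ⟨rfl, rfl⟩) (χ g) x y, h.dual]
  rfl

theorem JL.tf (h : JL χ) (g : SpecialLinearGroup (Fin 2) K) (x y : I27 → k) : tf (RR χ g x) (RR χ g y) = tf x y := by
  have h1 := pair_tf (k := k) (Or.inl ⟨rfl, rfl⟩) (χ g) x y
  rw [h.dual] at h1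
  exact h1

theorem JL.tr (h : JL χ) (g : SpecialLinearGroup (Fin 2) K) (x : I27 → k) : tr1 (RR χ g x) = tr1 x := by
  have h1 := h.tf g (u0 k) x
  have h2 : RR χ g (u0 k) = u0 k := h.u g
  rw [h2, tf_u0, tf_u0] at h1
  exact h1

theorem stb_W0 (h : JL χ) : Stb (RR χ) (W0 k) := by
  intro g w hw
  rw [mem_W0] at hw ⊢
  rw [h.tr, hw]

section two

variable [CharP k 2]

theorem three_eq : (3 : k) = 1 := by
  have h : (2 : k) = 0 := CharTwo.two_eq_zero
  linear_combination h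

theorem u0_not_W0 : u0 k ∉ W0 k := by
  rw [mem_W0, tr1_u0, three_eq]
  exact one_ne_zero

/-- a fixed vector of trace zero vanishes -/
theorem JL.fix0 (h : JL χ) {v : I27 → k} (hv : ∀ g, RR χ g v = v) (h0 : v ∈ W0 k) : v = 0 := by
  obtain ⟨c, rfl⟩ := h.fix v hv
  rw [mem_W0, tr1_smul, tr1_u0, three_eq, mul_one] at h0
  rw [h0, zero_smul]

/-- the quadratic map `x ↦ x^# + s(x) 1` on `J₀` -/
def nu (x : I27 → k) : I27 → k := sh x + tr1 (sh x) • u0 k

theorem nu_smul (c : k) (x : I27 → k) : nu (c • x) = c ^ 2 • nu x := by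
  rw [nu, nu, sh_smul, tr1_smul]
  module

theorem nu_zero : nu (0 : I27 → k) = 0 := by
  rw [nu, sh_zero', tr1_zero', zero_smul, add_zero]

theorem JL.nu (h : JL χ) (g : SpecialLinearGroup (Fin 2) K) (x : I27 → k) : nu (RR χ g x) = RR χ g (nu x) := by
  have h2 : RR χ g (u0 k) = u0 k := h.u g
  rw [F4P.nu, F4P.nu, h.sh, h.tr, map_add, map_smul, h2]

/-- the additivity of `nu`, if `x × y = T(x, y) 1` -/
theorem nu_add {x y : I27 → k} (hcr : cr x y = tf x y • u0 k) : nu (x + y) = nu x + nu y := by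
  rw [nu, nu, nu, sh_add, hcr, tr1_add, tr1_add, tr1_smul, tr1_u0, three_eq]
  have h : (2 : k) = 0 := CharTwo.two_eq_zero
  have h2 : tf x y • u0 k + tf x y • u0 k = 0 := by rw [← two_smul k, smul_smul, h, zero_mul, zero_smul]
  linear_combination (norm := module) h2

theorem cr_eq_zero_iff {x y : I27 → k} (h : cr x y + tf x y • u0 k = 0) : cr x y = tf x y • u0 k := by
  have h2 : (2 : k) = 0 := CharTwo.two_eq_zero
  have h3 : tf x y • u0 k + tf x y • u0 k = 0 := by rw [← two_smul k, smul_smul, h2, zero_mul, zero_smul]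
  linear_combination (norm := module) h - h3

/-- the basic identity -/
theorem nu_id {x y : I27 → k} (hcr : cr x y = tf x y • u0 k) : tf x y • nu x = cubicT x • y + tf (sh x) y • x := by
  have h1 := cr_sh_cr x y
  rw [hcr, cr_smul_right, cr_comm, cr_u0] at h1
  have h2 : (2 : k) = 0 := CharTwo.two_eq_zero
  have h3 : tf x y • sh x + tf x y • sh x = 0 := by rw [← two_smul k, smul_smul, h2, zero_mul, zero_smul]
  rw [nu]
  linear_combination (norm := module) h1 + h3

/-- if `nu = 0` on `W ≤ J₀` then `T = 0` on `W` -/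
theorem tf_zero_of_nu {W : Submodule k (I27 → k)} (hW : W ≤ W0 k) (hnu : ∀ x ∈ W, nu x = 0) :
    (∀ x ∈ W, tr1 (sh x) = 0) ∧ ∀ x ∈ W, ∀ y ∈ W, tf x y = 0 := by
  have h2 : (2 : k) = 0 := CharTwo.two_eq_zero
  have key : ∀ x ∈ W, tr1 (sh x) = 0 := by
    intro x hx
    have h1 : sh x = (-tr1 (sh x)) • u0 k := by
      have := hnu x hx
      rw [nu] at this
      linear_combination (norm := module) this
    have h3 := sh_sh x
    rw [h1, sh_smul, sh_u0] at h3
    have h4 := congrArg tr1 h3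
    rw [tr1_smul, tr1_smul, tr1_u0, three_eq, (mem_W0 x).1 (hW hx), mul_zero, mul_one] at h4
    exact neg_eq_zero.1 (pow_eq_zero_iff (two_ne_zero) |>.1 h4)
  refine ⟨key, fun x hx y hy => ?_⟩
  have h1 := tr1_cr x y
  have h3 := key (x + y) (W.add_mem hx hy)
  rw [sh_add, tr1_add, tr1_add, key x hx, key y hy, h1, (mem_W0 x).1 (hW hx), zero_mul] at h3
  linear_combination -h3

end two

end Cfsg.Agent.R2.F4P
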