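import Cfsg.Agent.R2.F4P.Mn

/-!
# S5931, p = 2: submodules of minimal dimension (helper20)

`MinW χ W` : `W ≤ J₀` is a non-zero submodule of minimal dimension. Then `T = 0`, `cr = 0`, `s = 0` on `W`.
-/

set_option autoImplicit false
set_option linter.unusedSectionVars false

namespace Cfsg.Agent.R2.F4P

open Module Matrix
open Cfsg.Lie
open Cfsg.Agent.ChevalleyStructure.E6Min.Basic (Zgrp)
open Cfsg.Agent.H943.SL2Rel Cfsg.Agent.H943.SL2Mod Cfsg.Agent.H943.RepAdd
open Cfsg.Agent.R2.H28.SL2 Cfsg.Agent.R2.SL2 Cfsg.Agent.R2.GEO Cfsg.Agent.R2.H6P2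
open Cfsg.Agent.H952.F4 (sh cr tf tr1 u0)
open Cfsg.Agent.H952.F4.Jord
open Cfsg.Agent.H952.F4.FixV (W0 mem_W0 finrank_W0)
open Cfsg.Agent.H163.E6 (V V' TS)

universe u v w

variable {k : Type u} [Field k] {K : Type w} [Field K]
variable {χ : SpecialLinearGroup (Fin 2) K →* ↥(Zgrp k)}

/-- a submodule of `J₀` of minimal dimension -/
structure MinW (χ : SpecialLinearGroup (Fin 2) K →* ↥(Zgrp k)) (W : Submodule k (I27 → k)) : Prop where
  le : W ≤ W0 k
  stb : Stb (RR χ) W
  ne : W ≠ ⊥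
  min : ∀ U ≤ W0 k, Stb (RR χ) U → finrank k U < finrank k W → U = ⊥

theorem exists_min (h : JL χ) : ∃ W, MinW χ W := by
  classical
  let P : ℕ → Prop := fun d => ∃ W ≤ W0 k, Stb (RR χ) W ∧ W ≠ ⊥ ∧ finrank k W = d
  have hP : ∃ d, P d := by
    refine ⟨26, W0 k, le_rfl, stb_W0 h, fun h0 => ?_, finrank_W0⟩
    have h1 := finrank_W0 (F := k)
    rw [h0, finrank_bot] at h1
    omega
  obtain ⟨W, hW0, hW, hne, hd⟩ := Nat.find_spec hP
  refine ⟨W, hW0, hW, hne, fun U hU0 hU hlt => ?_⟩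
  by_contra hc
  exact Nat.find_min hP (by omega) ⟨U, hU0, hU, hc, rfl⟩

theorem MinW.cases {W : Submodule k (I27 → k)} (hW : MinW χ W) {U : Submodule k (I27 → k)} (hU : U ≤ W)
    (hs : Stb (RR χ) U) : U = ⊥ ∨ U = W := by
  by_cases h0 : U = ⊥
  · exact Or.inl h0
  · right
    refine Submodule.eq_of_le_of_finrank_le hU ?_
    by_contra hlt
    exact h0 (hW.min U (hU.trans hW.le) hs (by omega))

theorem MinW.of_finrank {W : Submodule k (I27 → k)} (hW : MinW χ W) {U : Submodule k (I27 → k)} (hU : U ≤ W0 k)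
    (hs : Stb (RR χ) U) (hne : U ≠ ⊥) (hd : finrank k U ≤ finrank k W) : MinW χ U :=
  ⟨hU, hs, hne, fun U' h1 h2 h3 => hW.min U' h1 h2 (by omega)⟩

variable [CharP k 2]

section nodim

theorem stb_ker_tf (h : JL χ) {W : Submodule k (I27 → k)} (hW : Stb (RR χ) W) : Stb (RR χ) (W ⊓ perp W) := by
  rintro g w ⟨h1, h2⟩
  refine ⟨hW g w h1, fun x hx => ?_⟩
  have h3 : x = RR χ g (RR χ g⁻¹ x) := by
    rw [← Module.End.mul_apply, ← map_mul, mul_inv_cancel, map_one]
    rfl
  rw [h3, h.tf]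
  exact h2 _ (hW g⁻¹ x hx)

end nodim

variable [DecidableEq k] [Fintype K] [DecidableEq K] [CharP K 2] [IsAlgClosed k] (ι : K →+* k)

theorem MinW.irr {W : Submodule k (I27 → k)} (hW : MinW χ W) : Irrd (subRep (RR χ) W hW.stb) :=
  irr_of_min (RR χ) hW.stb hW.ne fun _ h1 h2 => hW.cases h1 h2

include ι

/-- one-dimensional submodules of `J₀` -/
theorem no_one' (h : JL χ) {W : Submodule k (I27 → k)} (hW : Stb (RR χ) W) (hW0 : W ≤ W0 k) : finrank k W ≠ 1 := by
  intro h1
  have hI : Irrd (subRep (RR χ) W hW) := by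
    refine ⟨nontrivial_of_finrank_pos (R := k) (by omega), fun U _ => ?_⟩
    have h2 := Submodule.finrank_le U
    have h3 : finrank k U = 0 ∨ finrank k U = 1 := by omega
    rcases h3 with h3 | h3
    · exact Or.inl (Submodule.finrank_eq_zero.1 h3)
    · exact Or.inr (Submodule.eq_top_of_finrank_eq (by rw [h3, h1]))
  obtain ⟨b, hb⟩ := (Sy ι 2).ex _ hI
  obtain ⟨l, hl, -, hq, hd, φ, hφ⟩ := exists_iso_FS ι hb
  have hl0 : l = [] := by
    rw [h1] at hd
    by_contra hne
    have h3 : l.length ≠ 0 := fun h => hne (List.length_eq_zero_iff.1 h)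
    have h4 : 2 ^ 1 ≤ 2 ^ l.length := Nat.pow_le_pow_right (by norm_num) (by omega)
    omega
  subst hl0
  have h5 : ∀ g, fs ι [] g (on1 ι) = on1 ι := fun g => Subtype.ext rfl
  have h6 : (φ (on1 ι) : I27 → k) = 0 := by
    refine h.fix0 (fun g => ?_) (hW0 (φ (on1 ι)).2)
    have h7 := hφ g (on1 ι)
    rw [h5] at h7
    exact (congrArg Subtype.val h7).symm
  have h8 : on1 ι = 0 := φ.map_eq_zero_iff.1 (Subtype.ext h6)
  have h9 := congrArg (co1 ι) h8
  rw [co1_on1, map_zero] at h9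
  exact one_ne_zero h9

theorem MinW.two_le (h : JL χ) {W : Submodule k (I27 → k)} (hW : MinW χ W) : 2 ≤ finrank k W := by
  have h1 := no_one' ι h hW.stb hW.le
  have h2 : 0 < finrank k W := Nat.pos_of_ne_zero fun h => hW.ne (Submodule.finrank_eq_zero.1 h)
  omega

/-- the product of two elements of `W` -/
theorem MinW.cr_eq (h : JL χ) {W : Submodule k (I27 → k)} (hW : MinW χ W) {x y : I27 → k} (hx : x ∈ W) (hy : y ∈ W) :
    cr x y = tf x y • u0 k := by
  obtain ⟨hA, -⟩ := altZ_irr.{u, u, w} ι hW.irr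
  have h20 : (2 : k) = 0 := CharTwo.two_eq_zero
  have hmem : ∀ x y : W, cr (x : I27 → k) y + tf (x : I27 → k) y • u0 k ∈ W0 k := by
    intro x y
    rw [mem_W0, tr1_add, tr1_smul, tr1_u0, tr1_cr, (mem_W0 _).1 (hW.le x.2), three_eq]
    ring
  let β : W →ₗ[k] W →ₗ[k] ↥(W0 k) := LinearMap.mk₂ k (fun x y => ⟨cr (x : I27 → k) y + tf (x : I27 → k) y • u0 k,
    hmem x y⟩) (fun x x' y => Subtype.ext (by
      simp only [Submodule.coe_add, cr_add_left, tf_add_left]
      module)) (fun c x y => Subtype.ext (by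
      simp only [Submodule.coe_smul, cr_smul_left, tf_smul_left]
      module)) (fun x y y' => Subtype.ext (by
      simp only [Submodule.coe_add, cr_add_right, tf_add_right]
      module)) (fun c x y => Subtype.ext (by
      simp only [Submodule.coe_smul, cr_smul_right, tf_smul_right]
      module))
  have hβ : ∀ x y : W, ((β x y : ↥(W0 k)) : I27 → k) = cr (x : I27 → k) y + tf (x : I27 → k) y • u0 k :=
    fun _ _ => rfl
  have hNS : NS (subRep (RR χ) (W0 k) (stb_W0 h)) (finrank k W) := by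
    intro U hU hd
    have h1 : U.map (W0 k).subtype = ⊥ := by
      refine hW.min _ (Submodule.map_subtype_le _ _) ?_ ?_
      · rintro g _ ⟨x, hx, rfl⟩
        exact ⟨_, hU g x hx, rfl⟩
      · rwa [Submodule.finrank_map_subtype_eq]
    exact Submodule.map_injective_of_injective (W0 k).injective_subtype (h1.trans (Submodule.map_bot _).symm)
  have h1 := hA _ (subRep (RR χ) (W0 k) (stb_W0 h)) hNS β (fun x => Subtype.ext (by
    rw [hβ, cr_self0]
    have h2 := tr1_sh (x : I27 → k)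
    rw [(mem_W0 _).1 (hW.le x.2), h20] at h2
    have h3 : tf (x : I27 → k) x = 0 := by linear_combination h2
    rw [h3, zero_smul, add_zero]
    rfl)) (fun g x y => Subtype.ext (by
    show cr (RR χ g x) (RR χ g y) + tf (RR χ g x) (RR χ g y) • u0 k = RR χ g (cr (x : I27 → k) y + tf (x : I27 → k) y • u0 k)
    have h2 : RR χ g (u0 k) = u0 k := h.u g
    rw [h.cr, h.tf, map_add, map_smul, h2])) ⟨x, hx⟩ ⟨y, hy⟩
  exact cr_eq_zero_iff (congrArg Subtype.val h1)

end Cfsg.Agent.R2.F4P
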