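import Cfsg.Agent.R2.F4P.Mn2

/-!
# S5931, p = 2: submodules of minimal dimension are isotropic (helper20)
-/

set_option autoImplicit false
set_option linter.unusedSectionVars false

namespace Cfsg.Agent.R2.F4P

open Module Matrix
open Cfsg.Lie
open Cfsg.Agent.ChevalleyStructure.E6Min.Basic (Zgrp)
open Cfsg.Agent.H943.SL2Rel Cfsg.Agent.H943.SL2Mod Cfsg.Agent.H943.RepAdd
open Cfsg.Agent.R2.H28.SL2 Cfsg.Agent.R2.SL2 Cfsg.Agent.R2.GEO Cfsg.Agent.R2.H6P2
open Cfsg.Agent.H952.F4 (sh cr tf tr1 u0)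
open Cfsg.Agent.H952.F4.Jord
open Cfsg.Agent.H952.F4.FixV (W0 mem_W0 finrank_W0)
open Cfsg.Agent.H163.E6 (V V' TS)

universe u v w

variable {k : Type u} [Field k] {K : Type w} [Field K]
variable {χ : SpecialLinearGroup (Fin 2) K →* ↥(Zgrp k)}

/-- a vector outside a line -/
theorem exists_not_span {W : Submodule k (I27 → k)} (hd : 2 ≤ finrank k W) (x : I27 → k) :
    ∃ y ∈ W, y ∉ Submodule.span k {x} := by
  by_contra hc
  push Not at hc
  have h1 : finrank k W ≤ finrank k (Submodule.span k ({x} : Set (I27 → k))) := Submodule.finrank_mono hc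
  have h2 := finrank_span_le_card (R := k) ({x} : Set (I27 → k))
  rw [Set.toFinset_singleton, Finset.card_singleton] at h2
  omega

theorem indep_of {x y : I27 → k} (hx : x ≠ 0) (hy : y ∉ Submodule.span k {x}) {α β : k} (h : α • x + β • y = 0) :
    α = 0 ∧ β = 0 := by
  have hβ : β = 0 := by
    by_contra hβ
    apply hy
    rw [Submodule.mem_span_singleton]
    refine ⟨-(β⁻¹ * α), ?_⟩
    have h1 : y = β⁻¹ • (β • y) := by rw [smul_smul, inv_mul_cancel₀ hβ, one_smul]
    have h2 : β • y = (-α) • x := by linear_combination (norm := module) h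
    rw [h1, h2, smul_smul]
    congr 1
    ring
  rw [hβ, zero_smul, add_zero] at h
  exact ⟨(smul_eq_zero.1 h).resolve_right hx, hβ⟩

variable [CharP k 2]

/-- a map `nu` with `nu x ∈ k x` vanishes -/
theorem nu_of_line [IsAlgClosed k] {W : Submodule k (I27 → k)} (hd : 2 ≤ finrank k W)
    (hadd : ∀ x ∈ W, ∀ y ∈ W, nu (x + y) = nu x + nu y) (hl : ∀ x ∈ W, ∃ c : k, nu x = c • x) : ∀ x ∈ W, nu x = 0 := by
  classical
  intro x hx
  by_cases hx0 : x = 0
  · rw [hx0, nu_zero]
  obtain ⟨y, hy, hxy⟩ := exists_not_span hd x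
  obtain ⟨c, hc0, hc1⟩ : ∃ c : k, c ≠ 0 ∧ c ≠ 1 := by
    have h1 : Infinite k := IsAlgClosed.instInfinite
    obtain ⟨c, hc⟩ := Infinite.exists_notMem_finset ({0, 1} : Finset k)
    simp only [Finset.mem_insert, Finset.mem_singleton, not_or] at hc
    exact ⟨c, hc⟩
  have key : ∀ d : k, d ≠ 0 → ∀ α β : k, nu (d • x) = α • (d • x) → nu y = β • y → α = β := by
    intro d hd0 α β h1 h2
    obtain ⟨γ, hγ⟩ := hl (d • x + y) (W.add_mem (W.smul_mem _ hx) hy)
    rw [hadd _ (W.smul_mem _ hx) _ hy, h1, h2] at hγ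
    have h3 := indep_of hx0 hxy (α := (α - γ) * d) (β := β - γ) (by
      linear_combination (norm := module) hγ)
    have h4 : α - γ = 0 := (mul_eq_zero.1 h3.1).resolve_right hd0
    linear_combination h4 - h3.2
  obtain ⟨β, hβ⟩ := hl y hy
  obtain ⟨α, hα⟩ := hl x hx
  obtain ⟨α', hα'⟩ := hl (c • x) (W.smul_mem _ hx)
  have e1 := key 1 one_ne_zero α β (by rw [one_smul]; exact hα) hβ
  have e2 := key c hc0 α' β hα' hβ
  rw [nu_smul, hα, e1, e2, smul_smul, smul_smul] at hα'
  have h5 : (c ^ 2 * β - β * c) • x = 0 := by rw [sub_smul, hα', sub_self]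
  have h6 := (smul_eq_zero.1 h5).resolve_right hx0
  have h7 : β * (c * (c - 1)) = 0 := by linear_combination h6
  rcases mul_eq_zero.1 h7 with h8 | h8
  · rw [hα, e1, h8, zero_smul]
  · exfalso
    rcases mul_eq_zero.1 h8 with h9 | h9
    · exact hc0 h9
    · exact hc1 (sub_eq_zero.1 h9)

variable [DecidableEq k] [Fintype K] [DecidableEq K] [CharP K 2] [IsAlgClosed k] (ι : K →+* k)

include ι

/-- the dimension two case: the natural module -/
theorem MinW.exists_two {a : ℕ} (hK : Fintype.card K = 2 ^ a) {W : Submodule k (I27 → k)} (hW : MinW χ W)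
    (h2 : finrank k W = 2) : ∃ n < a, ∃ x y, Two (RR χ) (ka ι n) x y ∧ Submodule.span k {x, y} = W := by
  obtain ⟨b, hb⟩ := (Sy ι 2).ex _ hW.irr
  obtain ⟨n, hna, -, x, y, hxy, hsp⟩ := two_of_isV ι hK hb h2
  refine ⟨n, hna, x, y, ⟨fun g => ?_, fun g => ?_, fun h => hxy.ne (Subtype.ext h)⟩, ?_⟩
  · exact congrArg Subtype.val (hxy.act₀ g)
  · exact congrArg Subtype.val (hxy.act₁ g)
  · have h1 := congrArg (Submodule.map W.subtype) hsp
    rw [Submodule.map_span, Submodule.map_top, Submodule.range_subtype, Set.image_pair] at h1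
    exact h1

omit [DecidableEq k] [DecidableEq K] [CharP K 2] [IsAlgClosed k] ι in
theorem exists_torus {κ : K →+* k} (h4 : 4 < Fintype.card K) : ∃ t : K, t ≠ 0 ∧ κ t ≠ 1 ∧ κ t ^ 3 ≠ 1 := by
  classical
  by_contra hc
  push Not at hc
  have h1 : ∀ t : K, t ≠ 0 → t ^ 3 = 1 := by
    intro t ht
    by_cases h2 : κ t = 1
    · have : t = 1 := κ.injective (by rw [h2, map_one])
      rw [this, one_pow]
    · have h3 := hc t ht h2
      rw [← map_pow] at h3
      exact κ.injective (by rw [h3, map_one])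
  have h2 : (Finset.univ : Finset K) ⊆ insert 0 (Polynomial.nthRoots 3 (1 : K)).toFinset := by
    intro t _
    by_cases ht : t = 0
    · rw [ht]
      exact Finset.mem_insert_self _ _
    · refine Finset.mem_insert_of_mem ?_
      rw [Multiset.mem_toFinset, Polynomial.mem_nthRoots (by norm_num)]
      exact h1 t ht
  have h3 := Finset.card_le_card h2
  have h5 := Finset.card_insert_le (0 : K) (Polynomial.nthRoots 3 (1 : K)).toFinset
  have h6 := Multiset.toFinset_card_le (Polynomial.nthRoots 3 (1 : K))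
  have h7 := Polynomial.card_nthRoots 3 (1 : K)
  rw [Finset.card_univ] at h3
  omega

/-- the diagonal elements -/
def dg (t : K) (ht : t ≠ 0) : SpecialLinearGroup (Fin 2) K :=
  ⟨!![t, 0; 0, t⁻¹], by rw [Matrix.det_fin_two_of, mul_inv_cancel₀ ht]; ring⟩

omit [DecidableEq k] [DecidableEq K] [CharP K 2] [IsAlgClosed k] ι in
/-- `nu = 0` on twisted natural submodules `⟨x, y⟩`, if `nu x ∈ ⟨x, y⟩` -/
theorem nu_two (h : JL χ) {κ : K →+* k} {x y : I27 → k} (hxy : Two (RR χ) κ x y)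
    (h4 : 4 < Fintype.card K) {α β : k} (hn : nu x = α • x + β • y) : nu x = 0 ∧ nu y = 0 := by
  obtain ⟨t, ht0, ht1, ht3⟩ := exists_torus (κ := κ) h4
  have hκ : κ t ≠ 0 := (map_ne_zero κ).2 ht0
  have hx : RR χ (dg t ht0) x = κ t • x := by
    rw [hxy.act₀]
    show κ t • x + κ 0 • y = _
    rw [map_zero, zero_smul, add_zero]
  have hy : RR χ (dg t ht0) y = (κ t)⁻¹ • y := by
    rw [hxy.act₁]
    show κ 0 • x + κ t⁻¹ • y = _
    rw [map_zero, zero_smul, zero_add, map_inv₀]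
  have h1 := h.nu (dg t ht0) x
  rw [hx, nu_smul, hn, map_add, map_smul, map_smul, hx, hy] at h1
  have h2 := hxy.indep (α := α * (κ t ^ 2 - κ t)) (β := β * (κ t ^ 2 - (κ t)⁻¹)) (by
    linear_combination (norm := module) h1)
  have hα : α = 0 := by
    refine (mul_eq_zero.1 h2.1).resolve_right fun h3 => ht1 ?_
    have h5 : κ t * (κ t - 1) = 0 := by linear_combination h3
    exact sub_eq_zero.1 ((mul_eq_zero.1 h5).resolve_left hκ)
  have hβ : β = 0 := by
    refine (mul_eq_zero.1 h2.2).resolve_right fun h3 => ht3 ?_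
    have h5 : κ t * (κ t ^ 2 - (κ t)⁻¹) = κ t ^ 3 - 1 := by
      field_simp
    rw [h3, mul_zero] at h5
    linear_combination -h5
  have hnx : nu x = 0 := by rw [hn, hα, hβ, zero_smul, zero_smul, add_zero]
  refine ⟨hnx, ?_⟩
  have h6 := hxy.wact.1
  have h7 := h.nu Cfsg.Agent.H943.SL2Rel.w x
  rw [h6, hnx, map_zero, ← neg_one_smul k, nu_smul] at h7
  have h8 : ((-1 : k) ^ 2) ≠ 0 := pow_ne_zero _ (neg_ne_zero.2 one_ne_zero)
  exact (smul_eq_zero.1 h7).resolve_left h8

/-- **minimal submodules are isotropic** -/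
theorem MinW.iso (h : JL χ) {a : ℕ} (hK : Fintype.card K = 2 ^ a) (h4 : 4 < Fintype.card K)
    {W : Submodule k (I27 → k)} (hW : MinW χ W) : ∀ x ∈ W, ∀ y ∈ W, tf x y = 0 := by
  have hd := hW.two_le ι h
  have hadd : ∀ x ∈ W, ∀ y ∈ W, nu (x + y) = nu x + nu y := fun x hx y hy => nu_add (hW.cr_eq ι h hx hy)
  by_contra hc
  -- the form is nondegenerate
  have hnd : ∀ x ∈ W, x ≠ 0 → ∃ y ∈ W, tf x y ≠ 0 := by
    rcases hW.cases (U := W ⊓ perp W) inf_le_left (stb_ker_tf h hW.stb) with h1 | h1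
    · intro x hx hx0
      by_contra hcon
      push Not at hcon
      have h2 : x ∈ W ⊓ perp W := ⟨hx, fun y hy => by rw [tf_comm]; exact hcon y hy⟩
      rw [h1] at h2
      exact hx0 h2
    · exfalso
      apply hc
      intro x hx y hy
      have h2 : x ∈ W ⊓ perp W := by rw [h1]; exact hx
      rw [tf_comm]
      exact h2.2 y hy
  have hmem : ∀ x ∈ W, nu x ∈ W := by
    intro x hx
    by_cases hx0 : x = 0
    · rw [hx0, nu_zero]
      exact W.zero_mem
    obtain ⟨y, hy, hxy⟩ := hnd x hx hx0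
    have h1 := nu_id (hW.cr_eq ι h hx hy)
    have h2 : nu x = (tf x y)⁻¹ • (cubicT x • y + tf (sh x) y • x) := by
      rw [← h1, smul_smul, inv_mul_cancel₀ hxy, one_smul]
    rw [h2]
    exact W.smul_mem _ (W.add_mem (W.smul_mem _ hy) (W.smul_mem _ hx))
  have hnu : ∀ x ∈ W, nu x = 0 := by
    by_cases hd2 : finrank k W = 2
    · obtain ⟨n, hn, x, y, hxy, hsp⟩ := hW.exists_two ι hK hd2
      have hx : x ∈ W := by rw [← hsp]; exact Submodule.subset_span (Or.inl rfl)
      have hy : y ∈ W := by rw [← hsp]; exact Submodule.subset_span (Or.inr rfl)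
      have h1 := hmem x hx
      rw [← hsp] at h1
      obtain ⟨α, β, h2⟩ := Submodule.mem_span_pair.1 h1
      obtain ⟨h3, h5⟩ := nu_two h hxy h4 h2.symm
      intro z hz
      rw [← hsp] at hz
      obtain ⟨c, d, rfl⟩ := Submodule.mem_span_pair.1 hz
      rw [hadd _ (W.smul_mem _ hx) _ (W.smul_mem _ hy), nu_smul, nu_smul, h3, h5, smul_zero, smul_zero, add_zero]
    · refine nu_of_line hd hadd fun x hx => ?_
      by_cases hx0 : x = 0
      · exact ⟨0, by rw [hx0, nu_zero, smul_zero]⟩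
      -- `N(x) = 0`
      obtain ⟨y, hy, hxy⟩ : ∃ y ∈ W ⊓ LinearMap.ker (tfB k x), y ∉ Submodule.span k {x} := by
        refine exists_not_span ?_ x
        have h1 := finrank_inf_ker_le (W := W) (tfB k x)
        omega
      have hyT : tf x y = 0 := hy.2
      have h1 := nu_id (hW.cr_eq ι h hx hy.1)
      rw [hyT, zero_smul] at h1
      have h2 := indep_of hx0 hxy (α := tf (sh x) y) (β := cubicT x) (by rw [add_comm]; exact h1.symm)
      obtain ⟨z, hz, hxz⟩ := hnd x hx hx0
      have h3 := nu_id (hW.cr_eq ι h hx hz)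
      rw [h2.2, zero_smul, zero_add] at h3
      refine ⟨(tf x z)⁻¹ * tf (sh x) z, ?_⟩
      rw [mul_smul, ← h3, smul_smul, inv_mul_cancel₀ hxz, one_smul]
  exact hc (tf_zero_of_nu hW.le hnu).2

end Cfsg.Agent.R2.F4P
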