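import Cfsg.Agent.R2.F4P.Mn3

/-!
# S5931, p = 2: existence of a white submodule of dimension 2 or 4 (helper20)
-/

set_option autoImplicit false
set_option linter.unusedSectionVars false

namespace Cfsg.Agent.R2.F4P

open Module Matrix
open Cfsg.Lie
open Cfsg.Agent.ChevalleyStructure.E6Min.Basic (Zgrp)
open Cfsg.Agent.H943.SL2Rel Cfsg.Agent.H943.SL2Mod Cfsg.Agent.H943.RepAdd
open Cfsg.Agent.R2.H28.SL2 Cfsg.Agent.R2.SL2 Cfsg.Agent.R2.GEO Cfsg.Agent.R2.H6P2
open Cfsg.Agent.H952.F4 (sh cr tf tr1 u0)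
open Cfsg.Agent.H952.F4.Jord
open Cfsg.Agent.H952.F4.FixV (W0 mem_W0 finrank_W0)
open Cfsg.Agent.H163.E6 (V V' TS)

universe u v w

variable {k : Type u} [Field k] {K : Type w} [Field K]
variable {χ : SpecialLinearGroup (Fin 2) K →* ↥(Zgrp k)}
variable [CharP k 2] [DecidableEq k] [Fintype K] [DecidableEq K] [CharP K 2] [IsAlgClosed k] (ι : K →+* k)

include ι

theorem MinW.cr_zero (h : JL χ) {a : ℕ} (hK : Fintype.card K = 2 ^ a) (h4 : 4 < Fintype.card K)
    {W : Submodule k (I27 → k)} (hW : MinW χ W) : ∀ x ∈ W, ∀ y ∈ W, cr x y = 0 := by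
  intro x hx y hy
  rw [hW.cr_eq ι h hx hy, hW.iso ι h hK h4 x hx y hy, zero_smul]

/-- `s = 0` on minimal submodules -/
theorem MinW.s_zero (h : JL χ) {a : ℕ} (hK : Fintype.card K = 2 ^ a) (h4 : 4 < Fintype.card K)
    {W : Submodule k (I27 → k)} (hW : MinW χ W) : ∀ x ∈ W, tr1 (sh x) = 0 := by
  have hcr := hW.cr_zero ι h hK h4
  have hadd : ∀ x ∈ W, ∀ y ∈ W, tr1 (sh (x + y)) = tr1 (sh x) + tr1 (sh y) := by
    intro x hx y hy
    rw [sh_add, hcr x hx y hy, add_zero, tr1_add]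
  have hsm : ∀ (c : k) (x : I27 → k), tr1 (sh (c • x)) = c ^ 2 * tr1 (sh x) := by
    intro c x
    rw [sh_smul, tr1_smul]
  let U : Submodule k (I27 → k) :=
    { carrier := {x | x ∈ W ∧ tr1 (sh x) = 0}
      add_mem' := by
        rintro x y ⟨h1, h2⟩ ⟨h3, h5⟩
        exact ⟨W.add_mem h1 h3, by rw [hadd x h1 y h3, h2, h5, add_zero]⟩
      zero_mem' := ⟨W.zero_mem, by rw [sh_zero', tr1_zero']⟩
      smul_mem' := by
        rintro c x ⟨h1, h2⟩
        exact ⟨W.smul_mem c h1, by rw [hsm, h2, mul_zero]⟩ }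
  have hUW : U ≤ W := fun x hx => hx.1
  have hUs : Stb (RR χ) U := by
    rintro g x ⟨h1, h2⟩
    exact ⟨hW.stb g x h1, by rw [h.sh, h.tr, h2]⟩
  rcases hW.cases hUW hUs with h1 | h1
  · exfalso
    have hmem : ∀ x ∈ W, tr1 (sh x) = 0 → x = 0 := by
      intro x hx hs
      have h2 : x ∈ U := ⟨hx, hs⟩
      rw [h1] at h2
      exact h2
    obtain ⟨x, hx, hx0⟩ := Submodule.exists_mem_ne_zero_of_ne_bot hW.ne
    obtain ⟨y, hy, hxy⟩ := exists_not_span (hW.two_le ι h) x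
    have hsx : tr1 (sh x) ≠ 0 := fun hs => hx0 (hmem x hx hs)
    obtain ⟨c, hc⟩ := IsAlgClosed.exists_pow_nat_eq (-tr1 (sh y) / tr1 (sh x)) (n := 2) (by norm_num)
    have h2 := hmem (c • x + y) (W.add_mem (W.smul_mem _ hx) hy) (by
      rw [hadd _ (W.smul_mem _ hx) _ hy, hsm, hc]
      field_simp
      ring)
    have h3 := indep_of hx0 hxy (α := c) (β := 1) (by rw [one_smul]; exact h2)
    exact one_ne_zero h3.2
  · intro x hx
    rw [← h1] at hx
    exact hx.2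

/-- **a white submodule of minimal dimension** -/
theorem exists_white (h : JL χ) {a : ℕ} (hK : Fintype.card K = 2 ^ a) (h4 : 4 < Fintype.card K) :
    ∃ W, MinW χ W ∧ ∀ w ∈ W, sh w = 0 := by
  obtain ⟨W, hW⟩ := exists_min h
  by_cases hs : ∀ w ∈ W, sh w = 0
  · exact ⟨W, hW, hs⟩
  have hcr := hW.cr_zero ι h hK h4
  have hd := hW.two_le ι h
  have h1 := shW_ts hd hcr
  have hle : Submodule.span k (sh '' (W : Set (I27 → k))) ≤ W0 k := by
    rw [Submodule.span_le]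
    rintro _ ⟨x, hx, rfl⟩
    exact (mem_W0 _).2 (hW.s_zero ι h hK h4 x hx)
  refine ⟨_, hW.of_finrank hle ?_ ?_ (finrank_shW_le hcr), h1.1⟩
  · refine stb_span fun g x hx => ?_
    obtain ⟨y, hy, rfl⟩ := hx
    exact Submodule.subset_span ⟨_, hW.stb g y hy, h.sh g y⟩
  · intro h0
    apply hs
    intro w hw
    have h2 : sh w ∈ Submodule.span k (sh '' (W : Set (I27 → k))) := Submodule.subset_span ⟨w, hw, rfl⟩
    rw [h0] at h2
    exact h2

/-- its dimension is 2 or 4 -/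
theorem MinW.two_or_four (h : JL χ) {W : Submodule k (I27 → k)} (hW : MinW χ W) (hs : ∀ w ∈ W, sh w = 0) :
    finrank k W = 2 ∨ finrank k W = 4 := by
  obtain ⟨-, n, hn⟩ := altZ_irr.{u, u, w} ι hW.irr
  have h1 := hW.two_le ι h
  have h6 := finrank_le_six hs
  have e1 : n < 3 := by
    by_contra hcon
    have e2 : 2 ^ 3 ≤ 2 ^ n := Nat.pow_le_pow_right (by norm_num) (by omega)
    omega
  interval_cases n
  · omega
  · exact Or.inl (by rw [hn]; norm_num)
  · exact Or.inr (by rw [hn]; norm_num)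

end Cfsg.Agent.R2.F4P
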