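import Cfsg.Agent.R2.F4P.Mn4
import Cfsg.Agent.R2.H6P2.Orbit

/-!
# S5931, p = 2: two white submodules of different types (helper20)
-/

set_option autoImplicit false
set_option linter.unusedSectionVars false

namespace Cfsg.Agent.R2.F4P

open Module Matrix
open Cfsg.Lie
open Cfsg.Agent.ChevalleyStructure.E6Min.Basic (Zgrp)
open Cfsg.Agent.H943.SL2Rel Cfsg.Agent.H943.SL2Mod Cfsg.Agent.H943.RepAdd
open Cfsg.Agent.R2.H28.SL2 Cfsg.Agent.R2.SL2 Cfsg.Agent.R2.GEO Cfsg.Agent.R2.H6P2
open Cfsg.Agent.H952.F4 (sh cr tf tr1 u0)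
open Cfsg.Agent.H952.F4.Jord
open Cfsg.Agent.H952.F4.FixV (W0 mem_W0 finrank_W0)
open Cfsg.Agent.H163.E6 (V V' TS)

universe u v w

variable {k : Type u} [Field k] {K : Type w} [Field K]
variable {χ : SpecialLinearGroup (Fin 2) K →* ↥(Zgrp k)}

theorem Two.u_act {κ : K →+* k} {x y : I27 → k} (h : Two (RR χ) κ x y) (s : K) :
    RR χ (u s) x = x ∧ RR χ (u s) y = κ s • x + y := by
  constructor
  · rw [h.act₀]
    show κ 1 • x + κ 0 • y = x
    rw [map_zero, zero_smul, add_zero, map_one, one_smul]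
  · rw [h.act₁]
    show κ s • x + κ 1 • y = κ s • x + y
    rw [map_one, one_smul]

/-- twisted natural submodules consist of vectors of trace zero -/
theorem two_tr (hJ : JL χ) {κ : K →+* k} {x y : I27 → k} (h : Two (RR χ) κ x y) : tr1 x = 0 ∧ tr1 y = 0 := by
  have h1 := hJ.tr (u 1) y
  rw [(Two.u_act h 1).2, map_one, one_smul, tr1_add] at h1
  have hx : tr1 x = 0 := by linear_combination h1
  refine ⟨hx, ?_⟩
  have h2 := hJ.tr w x
  rw [h.wact.1, ← neg_one_smul k, tr1_smul, hx] at h2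
  linear_combination -h2

/-- submodules of different types are orthogonal -/
theorem tf_two (hJ : JL χ) {κ κ' : K →+* k} (hκ : κ ≠ κ') {x y x' y' : I27 → k} (h : Two (RR χ) κ x y)
    (h' : Two (RR χ) κ' x' y') : tf x x' = 0 ∧ tf x y' = 0 ∧ tf y x' = 0 ∧ tf y y' = 0 := by
  have e1 : tf x x' = 0 := by
    have h1 := hJ.tf (u 1) x y'
    rw [(Two.u_act h 1).1, (Two.u_act h' 1).2, map_one, one_smul, tf_add_right] at h1
    linear_combination h1
  have e4 : tf y y' = 0 := by
    have h1 := hJ.tf w x x'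
    rw [h.wact.1, h'.wact.1, ← neg_one_smul k, ← neg_one_smul k y', tf_smul_left, tf_smul_right, e1] at h1
    linear_combination h1
  have e23 : ∀ s : K, κ' s * tf y x' + κ s * tf x y' = 0 := by
    intro s
    have h1 := hJ.tf (u s) y y'
    rw [(Two.u_act h s).2, (Two.u_act h' s).2, tf_add_left, tf_add_right, tf_add_right, tf_smul_left, tf_smul_right,
      tf_smul_left, tf_smul_right, e1, e4] at h1
    linear_combination h1
  have e5 := e23 1
  rw [map_one, map_one] at e5
  obtain ⟨s, hs⟩ : ∃ s, κ s ≠ κ' s := by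
    by_contra hc
    push Not at hc
    exact hκ (RingHom.ext hc)
  have e6 := e23 s
  have e7 : (κ s - κ' s) * tf x y' = 0 := by linear_combination e6 - κ' s * e5
  have e2 : tf x y' = 0 := (mul_eq_zero.1 e7).resolve_left (sub_ne_zero.2 hs)
  refine ⟨e1, e2, ?_, e4⟩
  rw [e2] at e5
  linear_combination e5

variable [CharP k 2]

/-- **the product of two white submodules of different types is white** -/
theorem four_ts' (hJ : JL χ) {κ κ' : K →+* k} (hκ : κ ≠ κ') {x y x' y' : I27 → k}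
    (h : TTwo (V k) χ κ x y) (h' : TTwo (V k) χ κ' x' y') :
    (∀ w ∈ Submodule.span k {cr x x', cr x y', cr y x', cr y y'}, sh w = 0) := by
  have hp : Pair (V k) (V' k) := Or.inl ⟨rfl, rfl⟩
  have hF := h.four hp h'
  -- the pure products are singular
  have hsh : ∀ a b : I27 → k, sh a = 0 → sh b = 0 → sh (cr a b) = 0 := by
    intro a b ha hb
    have h1 := sh_cr a b
    rw [ha, hb, cr_zero_right', tf_zero_left', tf_zero_right', zero_smul, zero_smul, add_zero, add_zero] at h1
    exact h1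
  have hcc : ∀ a b c : I27 → k, sh a = 0 → cr b c = 0 → cr (cr a b) (cr a c) = 0 := by
    intro a b c ha hbc
    have h1 := cr_cr a b c
    rw [ha, hbc, cr_zero_left', tf_zero_left', tf_zero_left', tf_zero_right', zero_smul, zero_smul, zero_smul, add_zero,
      add_zero, add_zero] at h1
    exact h1
  have s1 := hsh x x' h.shx h'.shx
  have s2 := hsh x y' h.shx h'.shy
  have s3 := hsh y x' h.shy h'.shx
  have s4 := hsh y y' h.shy h'.shy
  have c12 := hcc x x' y' h.shx h'.crxy
  have c34 := hcc y x' y' h.shy h'.crxy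
  have c13 : cr (cr x x') (cr y x') = 0 := by
    rw [cr_comm x x', cr_comm y x']
    exact hcc x' x y h'.shx h.crxy
  have c24 : cr (cr x y') (cr y y') = 0 := by
    rw [cr_comm x y', cr_comm y y']
    exact hcc y' x y h'.shy h.crxy
  have hxy : sh (x + y) = 0 := by rw [sh_add, h.shx, h.shy, h.crxy, add_zero, add_zero]
  have hxy' : sh (x' + y') = 0 := by rw [sh_add, h'.shx, h'.shy, h'.crxy, add_zero, add_zero]
  have c14 : cr (cr x x') (cr y y') + cr (cr x y') (cr y x') = 0 := by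
    have h1 := hsh (x + y) (x' + y') hxy hxy'
    rw [cr_add_left, cr_add_right, cr_add_right, sh_add, sh_add, sh_add, cr_add_left, cr_add_right, cr_add_right,
      s1, s2, s3, s4, c12, c34, c13, c24] at h1
    simpa using h1
  -- the remaining product is fixed
  obtain ⟨c, hc⟩ : ∃ c : k, cr (cr x x') (cr y y') = c • u0 k := by
    refine hJ.fix _ fun g => ?_
    have c23 : cr (cr x y') (cr y x') = -cr (cr x x') (cr y y') := by
      rw [eq_neg_iff_add_eq_zero, add_comm]
      exact c14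
    have d12 : cr (cr x y') (cr x x') = 0 := by rw [cr_comm, c12]
    have d13 : cr (cr y x') (cr x x') = 0 := by rw [cr_comm, c13]
    have d24 : cr (cr y y') (cr x y') = 0 := by rw [cr_comm, c24]
    have d34 : cr (cr y y') (cr y x') = 0 := by rw [cr_comm, c34]
    have d14 : cr (cr y y') (cr x x') = cr (cr x x') (cr y y') := cr_comm _ _
    have d23 : cr (cr y x') (cr x y') = -cr (cr x x') (cr y y') := by rw [cr_comm, c23]
    have t1 : cr (cr x x') (cr x x') = 0 := cr_self0 _
    have t2 : cr (cr x y') (cr x y') = 0 := cr_self0 _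
    have t3 : cr (cr y x') (cr y x') = 0 := cr_self0 _
    have t4 : cr (cr y y') (cr y y') = 0 := cr_self0 _
    rw [← pair_cr hp.swap, show V' k (χ g) (cr x x') = _ from hF.act₀ g, show V' k (χ g) (cr y y') = _ from hF.act₃ g]
    simp only [cr_add_left, cr_add_right, cr_smul_left, cr_smul_right, c12, c34, c13, c24, d12, d13, d24, d34, d14, d23,
      c23, t1, t2, t3, t4, smul_zero, add_zero, zero_add, smul_neg]
    have e1 := kdet κ g
    have e2 := kdet κ' g
    have e3 : (κ (g.1 0 0) * κ (g.1 1 1) - κ (g.1 0 1) * κ (g.1 1 0)) *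
        (κ' (g.1 0 0) * κ' (g.1 1 1) - κ' (g.1 0 1) * κ' (g.1 1 0)) = 1 := by rw [e1, e2, mul_one]
    calc _ = ((κ (g.1 0 0) * κ (g.1 1 1) - κ (g.1 0 1) * κ (g.1 1 0)) *
          (κ' (g.1 0 0) * κ' (g.1 1 1) - κ' (g.1 0 1) * κ' (g.1 1 0))) • cr (cr x x') (cr y y') := by module
      _ = _ := by rw [e3, one_smul]
  -- and zero
  have hβ : cr (cr x x') (cr y y') = 0 := by
    obtain ⟨t1, t2, t3, t4⟩ := tf_two hJ hκ h.toTwo h'.toTwo
    have tx := (two_tr hJ h.toTwo).1
    have ty := (two_tr hJ h.toTwo).2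
    have h1 := sh_sh (cr x x' + cr y y')
    rw [sh_add, s1, s4, hc, zero_add, zero_add, sh_smul, sh_u0] at h1
    have h2 := congrArg tr1 h1
    rw [tr1_smul, tr1_smul, tr1_u0, three_eq, tr1_add, tr1_cr, tr1_cr, tx, ty, t1, t4] at h2
    have h3 : c ^ 2 = 0 := by linear_combination h2
    rw [hc, pow_eq_zero_iff (two_ne_zero) |>.1 h3, zero_smul]
  have hβ' : cr (cr x y') (cr y x') = 0 := by
    rw [hβ, zero_add] at c14
    exact c14
  exact (ts_four s1 s2 s3 s4 c12 c13 hβ hβ' c24 c34).1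

variable [DecidableEq k] [Fintype K] [DecidableEq K] [CharP K 2] [IsAlgClosed k] (ι : K →+* k)

theorem ka_ne {a : ℕ} (hK : Fintype.card K = 2 ^ a) {n m : ℕ} (hn : n < a) (hm : m < a) (hnm : n ≠ m) :
    ka ι n ≠ ka ι m := by
  intro h
  have h1 : ∀ t : K, t ^ 2 ^ n = t ^ 2 ^ m := by
    intro t
    have h2 := RingHom.congr_fun h t
    rw [ka_apply, ka_apply, ← map_pow, ← map_pow] at h2
    exact ι.injective h2
  obtain ⟨g, hg⟩ := IsCyclic.exists_generator (α := Kˣ)
  have h3 : g ^ 2 ^ n = g ^ 2 ^ m := Units.ext (by push_cast; exact h1 g)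
  rw [pow_inj_mod, orderOf_eq_card_of_forall_mem_zpowers hg, Nat.card_units, Nat.card_eq_fintype_card, hK] at h3
  have h4 : ∀ j, j < a → 2 ^ j < 2 ^ a - 1 ∨ a = 1 := by
    intro j hj
    by_cases ha : a = 1
    · exact Or.inr ha
    · left
      have h5 : 2 ^ j ≤ 2 ^ (a - 1) := Nat.pow_le_pow_right (by norm_num) (by omega)
      have h6 : 2 ^ a = 2 * 2 ^ (a - 1) := by
        rw [← pow_succ']
        congr 1
        omega
      have h7 : 2 ^ 1 ≤ 2 ^ (a - 1) := Nat.pow_le_pow_right (by norm_num) (by omega)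
      omega
  rcases h4 n hn with h5 | h5
  · rcases h4 m hm with h6 | h6
    · rw [Nat.mod_eq_of_lt h5, Nat.mod_eq_of_lt h6] at h3
      exact hnm (Nat.pow_right_injective le_rfl h3)
    · omega
  · omega

/-- **no two white submodules of different types** -/
theorem two_types' (hJ : JL χ) {a : ℕ} (hK : Fintype.card K = 2 ^ a)
    (hW4 : ∀ W : Submodule k (I27 → k), Stb (RR χ) W → finrank k W = 4 → (∀ w ∈ W, sh w = 0) → False)
    {n m : ℕ} (hn : n < a) (hm : m < a) (hnm : n ≠ m) {x y x' y' : I27 → k}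
    (h : TTwo (V k) χ (ka ι n) x y) (h' : TTwo (V k) χ (ka ι m) x' y') : False := by
  have hp : Pair (V k) (V' k) := Or.inl ⟨rfl, rfl⟩
  by_cases h0 : cr x x' = 0 ∧ cr x y' = 0 ∧ cr y x' = 0 ∧ cr y y' = 0
  · exact hW4 _ (stb_sum h.toTwo h'.toTwo) (finrank_sum ι hK hn hm hnm h.toTwo h'.toTwo) (h.sum_ts h' h0).1
  · have hf := h.four hp h'
    obtain ⟨hd, -⟩ := hf.isV ι hK hn hm hnm h0
    refine hW4 _ (fun g w hw => ?_) hd (four_ts' hJ (ka_ne ι hK hn hm hnm) h h')
    have h1 := hf.stb g w hw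
    have h2 : rp (V' k) χ g w = RR χ g w := hJ.dual g w
    rw [h2] at h1
    exact h1

end Cfsg.Agent.R2.F4P
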