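import Cfsg.Agent.R2.F4P.Mn5
import Cfsg.Agent.R2.F4P.C2
import Cfsg.Agent.R2.F4N.White
import Cfsg.Agent.R2.F4M.Kc

/-!
# S5931, p = 2, `J_k^L = k u0`: contradiction (helper20)

* `jl` : the hypotheses `JL` for `χ = ψk ∘ pq`;
* `h_inner` : the elements of `H` act as inner automorphisms;
* `p2_fix` : **p = 2 is impossible, if `FixU`**.
-/

set_option autoImplicit false
set_option linter.unusedSectionVars false

namespace Cfsg.Agent.R2.F4P

open Module Matrix
open Cfsg.Lie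
open Cfsg.Agent.ChevalleyStructure.E6Min.Basic (Zgrp)
open Cfsg.Agent.H943.SL2Rel Cfsg.Agent.H943.SL2Mod Cfsg.Agent.H943.RepAdd
open Cfsg.Agent.R2.H28.SL2 Cfsg.Agent.R2.SL2 Cfsg.Agent.R2.GEO Cfsg.Agent.R2.H6P2
open Cfsg.Agent.H952.F4 (sh cr tf tr1 u0)
open Cfsg.Agent.H952.F4.Jord
open Cfsg.Agent.H952.F4.FixV (W0 mem_W0 finrank_W0)
open Cfsg.Agent.H163.E6 (V V' TS)
open Cfsg.Agent.H65.E6Emb
open Cfsg.Agent.R2.F4M Cfsg.Agent.R2.F4N
open Cfsg.Agent.R2.H9.E6 (pq pq_surjective)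

universe u v w

section

variable {F : Type u} [Field F] [Fintype F] {K : Type w} [Field K] [Fintype K] {k : Type u} [Field k] [Algebra F k]
  {φ : ProjectiveSpecialLinearGroup (Fin 2) K →* ↥(chevF4.group F)}

theorem chi_eq (g : SpecialLinearGroup (Fin 2) K) : chi (algebraMap F k) ((zt F).comp φ) g = ψk k φ (pq g) := rfl

theorem jl (hfix : FixU k φ) : JL (chi (algebraMap F k) ((zt F).comp φ)) where
  u g := by rw [chi_eq]; exact ψk_u0 φ (pq g)
  dual g x := by rw [chi_eq]; exact V'_ψk φ (pq g) x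
  fix v hv := hfix v fun a => by
    obtain ⟨g, rfl⟩ := pq_surjective a
    rw [← chi_eq]
    exact hv g

end

section cfg

variable {F : Type u} [Field F] [Fintype F] {K : Type w} [Field K] [Fintype K] {a b : ℕ}
  {H : Subgroup ↥(chevF4.group F)} {φ : ProjectiveSpecialLinearGroup (Fin 2) K →* ↥(chevF4.group F)}
variable {k : Type u} [Field k] [Algebra F k] [Algebra.IsAlgebraic F k]
variable [CharP k 2] [DecidableEq k] [DecidableEq K] [CharP K 2] [IsAlgClosed k] (ι : K →+* k)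

/-- the group action over `k` -/
noncomputable abbrev Av (k : Type u) [Field k] [Algebra F k] (g : ↥(chevF4.group F)) : (I27 → k) →ₗ[k] (I27 → k) :=
  V k (emb (algebraMap F k) (zt F g))

omit [Algebra.IsAlgebraic F k] [CharP k 2] [DecidableEq k] [IsAlgClosed k] in
theorem Av_eq (g : ↥(chevF4.group F)) (x : I27 → k) :
    Av k g x = Jr k (Cfsg.Agent.GpExc.Field.emb Cfsg.Agent.H952.F4.hF4 (algebraMap F k) g) x := by
  rw [← V_zt, zt_emb]

omit [Algebra.IsAlgebraic F k] [CharP k 2] [DecidableEq k] [IsAlgClosed k] in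
theorem Av_sh (g : ↥(chevF4.group F)) (x : I27 → k) : sh (Av k g x) = Av k g (sh x) := by
  rw [Av_eq, Av_eq, Jr_sh]

omit [Algebra.IsAlgebraic F k] [CharP k 2] [DecidableEq k] [IsAlgClosed k] in
theorem Av_cr (g : ↥(chevF4.group F)) (x y : I27 → k) : cr (Av k g x) (Av k g y) = Av k g (cr x y) := by
  rw [Av_eq, Av_eq, Av_eq, Jr_cr]

omit [Algebra.IsAlgebraic F k] [CharP k 2] [DecidableEq k] [IsAlgClosed k] in
theorem Av_tr (g : ↥(chevF4.group F)) (x : I27 → k) : tr1 (Av k g x) = tr1 x := by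
  rw [Av_eq, Jr_tr]

omit [Algebra.IsAlgebraic F k] [CharP k 2] [DecidableEq k] [IsAlgClosed k] in
theorem Av_mul (g g' : ↥(chevF4.group F)) (x : I27 → k) : Av k (g * g') x = Av k g (Av k g' x) := by
  show V k (emb _ (zt F (g * g'))) x = _
  rw [map_mul, map_mul, map_mul]
  rfl

omit [Algebra.IsAlgebraic F k] [CharP k 2] [DecidableEq k] [IsAlgClosed k] in
theorem Av_one (x : I27 → k) : Av k (1 : ↥(chevF4.group F)) x = x := by
  show V k (emb _ (zt F 1)) x = _
  rw [map_one, map_one, map_one]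
  rfl

omit [Algebra.IsAlgebraic F k] [CharP k 2] [DecidableEq k] [IsAlgClosed k] in
theorem Av_inj (g : ↥(chevF4.group F)) {x y : I27 → k} (h : Av k g x = Av k g y) : x = y := by
  have h1 := congrArg (Av k g⁻¹) h
  rwa [← Av_mul, ← Av_mul, inv_mul_cancel, Av_one, Av_one] at h1

/-- minimal submodules of dimension two are twisted natural modules, which are white or have a white image -/
theorem white_or (hJ : JL (chi (algebraMap F k) ((zt F).comp φ))) (hK : Fintype.card K = 2 ^ a)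
    (h4 : 4 < Fintype.card K) {n : ℕ} {x y : I27 → k}
    (h : Two (RR (chi (algebraMap F k) ((zt F).comp φ))) (ka ι n) x y)
    (hW : MinW (chi (algebraMap F k) ((zt F).comp φ)) (Submodule.span k {x, y}))
    (h2 : finrank k (Submodule.span k {x, y}) = 2) :
    TTwo (V k) (chi (algebraMap F k) ((zt F).comp φ)) (ka ι n) x y ∨
      TTwo (V k) (chi (algebraMap F k) ((zt F).comp φ)) (ka ι (n + 1)) (sh x) (sh y) := by
  set χ := chi (algebraMap F k) ((zt F).comp φ) with hχ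
  have hx : x ∈ Submodule.span k {x, y} := Submodule.subset_span (Or.inl rfl)
  have hy : y ∈ Submodule.span k {x, y} := Submodule.subset_span (Or.inr rfl)
  have hcr := hW.cr_zero ι hJ hK h4
  have hcrxy := hcr x hx y hy
  by_cases hs : sh x = 0
  · left
    refine ⟨h, hs, ?_, hcrxy⟩
    have h3 := hJ.sh w x
    rw [h.wact.1, hs, map_zero, ← neg_one_smul k, sh_smul] at h3
    exact (smul_eq_zero.1 h3).resolve_left (pow_ne_zero _ (neg_ne_zero.2 one_ne_zero))
  · right
    have hsm : ∀ c d : k, sh (c • x + d • y) = c ^ 2 • sh x + d ^ 2 • sh y := by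
      intro c d
      rw [sh_add, sh_smul, sh_smul, cr_smul_left, cr_smul_right, hcrxy, smul_zero, smul_zero, add_zero]
    have hts := shW_ts (W := Submodule.span k {x, y}) (by omega) hcr
    have hsx : sh x ∈ Submodule.span k (sh '' (Submodule.span k {x, y} : Set (I27 → k))) :=
      Submodule.subset_span ⟨x, hx, rfl⟩
    have hsy : sh y ∈ Submodule.span k (sh '' (Submodule.span k {x, y} : Set (I27 → k))) :=
      Submodule.subset_span ⟨y, hy, rfl⟩
    refine ⟨⟨fun g => ?_, fun g => ?_, hs⟩, hts.1 _ hsx, hts.1 _ hsy, hts.2 _ hsx _ hsy⟩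
    · rw [show rp (V k) χ g (sh x) = sh (RR χ g x) from (hJ.sh g x).symm, h.act₀, hsm, ka_succ, ka_succ]
    · rw [show rp (V k) χ g (sh y) = sh (RR χ g y) from (hJ.sh g y).symm, h.act₁, hsm, ka_succ, ka_succ]

/-- **the elements of `H` act as inner automorphisms** -/
theorem h_inner (hcfg : Cfg 2 a b H φ) (hJ : JL (chi (algebraMap F k) ((zt F).comp φ))) (hK : Fintype.card K = 2 ^ a)
    (hW4 : ∀ W : Submodule k (I27 → k), Stb (RR (chi (algebraMap F k) ((zt F).comp φ))) W → finrank k W = 4 →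
      (∀ w ∈ W, sh w = 0) → False)
    {n : ℕ} (hna : n < a) {x y : I27 → k} (h : TTwo (V k) (chi (algebraMap F k) ((zt F).comp φ)) (ka ι n) x y)
    (hmin : MinW (chi (algebraMap F k) ((zt F).comp φ)) (Submodule.span k {x, y}))
    {m : ↥(chevF4.group F)} (hm : m ∈ H) : m ∈ φ.range := by
  set χ := chi (algebraMap F k) ((zt F).comp φ) with hχ
  have hAχ : ∀ g : SpecialLinearGroup (Fin 2) K, ∀ v, RR χ g v = Av k (φ (pq g)) v := fun g v => rfl
  have hd2 := (h.toTwo.isV ι hK hna).1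
  -- the image of the module
  set U : Submodule k (I27 → k) := (Submodule.span k {x, y}).map (Av k m) with hUdef
  have hnorm : ∀ g : SpecialLinearGroup (Fin 2) K, ∃ g' : SpecialLinearGroup (Fin 2) K,
      φ (pq g') = m * φ (pq g) * m⁻¹ := by
    intro g
    obtain ⟨z, hz⟩ := hcfg.max.norm m hm (φ (pq g)) ⟨_, rfl⟩
    obtain ⟨g', rfl⟩ := pq_surjective z
    exact ⟨g', hz⟩
  have hnorm' : ∀ g : SpecialLinearGroup (Fin 2) K, ∃ g' : SpecialLinearGroup (Fin 2) K,
      φ (pq g') = m⁻¹ * φ (pq g) * m := by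
    intro g
    obtain ⟨z, hz⟩ := hcfg.max.norm m⁻¹ (inv_mem hm) (φ (pq g)) ⟨_, rfl⟩
    obtain ⟨g', rfl⟩ := pq_surjective z
    exact ⟨g', by rw [hz, inv_inv]⟩
  have hUs : Stb (RR χ) U := by
    rintro g _ ⟨v, hv, rfl⟩
    obtain ⟨g', hg'⟩ := hnorm' g
    refine ⟨Av k (φ (pq g')) v, h.stb g' v hv, ?_⟩
    rw [hAχ, ← Av_mul, ← Av_mul, hg']
    congr 2
    group
  have hUd : finrank k U = finrank k (Submodule.span k {x, y}) :=
    (Submodule.equivMapOfInjective (Av k m) (fun _ _ hv => Av_inj m hv) _).symm.finrank_eq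
  have hU0 : U ≤ W0 k := by
    rintro _ ⟨v, hv, rfl⟩
    rw [mem_W0, Av_tr]
    exact (mem_W0 v).1 (hmin.le hv)
  have hUne : U ≠ ⊥ := by
    intro h0
    rw [h0, finrank_bot, hd2] at hUd
    omega
  have hUmin := hmin.of_finrank hU0 hUs hUne hUd.le
  obtain ⟨n', hn', x2, y2, h2, hsp⟩ := hUmin.exists_two ι hK (by rw [hUd, hd2])
  have hx2 : x2 ∈ U := by rw [← hsp]; exact Submodule.subset_span (Or.inl rfl)
  have hy2 : y2 ∈ U := by rw [← hsp]; exact Submodule.subset_span (Or.inr rfl)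
  have hUts : ∀ v ∈ U, sh v = 0 := by
    rintro _ ⟨v, hv, rfl⟩
    rw [Av_sh, h.ts v hv, map_zero]
  have hcr2 : cr x2 y2 = 0 := by
    have h3 := hUts (x2 + y2) (U.add_mem hx2 hy2)
    rw [sh_add, hUts _ hx2, hUts _ hy2, zero_add, zero_add] at h3
    exact h3
  have h2' : TTwo (V k) χ (ka ι n') x2 y2 := ⟨h2, hUts _ hx2, hUts _ hy2, hcr2⟩
  have hnn : n = n' := by
    by_contra hne
    exact two_types' ι hJ hK hW4 hna hn' hne h h2'
  subst hnn
  -- the matrix
  obtain ⟨v1, hv1, hx2'⟩ := hx2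
  obtain ⟨v2, hv2, hy2'⟩ := hy2
  obtain ⟨p, r, rfl⟩ := Submodule.mem_span_pair.1 hv1
  obtain ⟨q, s, rfl⟩ := Submodule.mem_span_pair.1 hv2
  choose σ hσ using hnorm
  have hσ1 : ∀ (g : SpecialLinearGroup (Fin 2) K) (v : I27 → k),
      RR χ (σ g) (Av k m v) = Av k m (RR χ g v) := by
    intro g v
    rw [hAχ, hAχ, ← Av_mul, ← Av_mul, hσ]
    congr 2
    group
  have hinj : ∀ v v' : I27 → k, Av k m v = Av k m v' → v = v' := fun v v' hv => Av_inj m hv
  have e0 : ∀ g, RR χ g x = _ := h.act₀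
  have e1 : ∀ g, RR χ g y = _ := h.act₁
  have E0 : ∀ g : SpecialLinearGroup (Fin 2) K,
      p • (ka ι n (g.1 0 0) • x + ka ι n (g.1 1 0) • y) + r • (ka ι n (g.1 0 1) • x + ka ι n (g.1 1 1) • y) =
      ka ι n ((σ g).1 0 0) • (p • x + r • y) + ka ι n ((σ g).1 1 0) • (q • x + s • y) := by
    intro g
    apply hinj
    have h1 := h2.act₀ (σ g)
    rw [← hx2', ← hy2', hσ1, map_add, map_smul, map_smul, e0, e1] at h1
    rw [h1, ← map_smul (Av k m), ← map_smul (Av k m), ← map_add (Av k m)]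
  have E1 : ∀ g : SpecialLinearGroup (Fin 2) K,
      q • (ka ι n (g.1 0 0) • x + ka ι n (g.1 1 0) • y) + s • (ka ι n (g.1 0 1) • x + ka ι n (g.1 1 1) • y) =
      ka ι n ((σ g).1 0 1) • (p • x + r • y) + ka ι n ((σ g).1 1 1) • (q • x + s • y) := by
    intro g
    apply hinj
    have h1 := h2.act₁ (σ g)
    rw [← hx2', ← hy2', hσ1, map_add, map_smul, map_smul, e0, e1] at h1
    rw [h1, ← map_smul (Av k m), ← map_smul (Av k m), ← map_add (Av k m)]
  have hD : p * s - q * r ≠ 0 := by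
    intro hD
    have hxy2 : ∀ α β : k, α • (p • x + r • y) + β • (q • x + s • y) = 0 → α = 0 ∧ β = 0 := by
      intro α β h0
      refine h2.indep ?_
      rw [← hx2', ← hy2', ← map_smul, ← map_smul, ← map_add, h0, map_zero]
    have h1 := hxy2 s (-r) (by
      have e : s • (p • x + r • y) + (-r) • (q • x + s • y) = (p * s - q * r) • x := by module
      rw [e, hD, zero_smul])
    have h3 := hxy2 (-q) p (by
      have e : (-q) • (p • x + r • y) + p • (q • x + s • y) = (p * s - q * r) • y := by module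
      rw [e, hD, zero_smul])
    have hr : r = 0 := neg_eq_zero.1 h1.2
    apply h2.ne
    rw [← hx2', h3.2, hr, zero_smul, zero_smul, add_zero, map_zero]
  have key : ∀ g : SpecialLinearGroup (Fin 2) K,
      (ka ι n (g.1 0 0) * p + ka ι n (g.1 0 1) * r = p * ka ι n ((σ g).1 0 0) + q * ka ι n ((σ g).1 1 0)) ∧
      (ka ι n (g.1 1 0) * p + ka ι n (g.1 1 1) * r = r * ka ι n ((σ g).1 0 0) + s * ka ι n ((σ g).1 1 0)) := by
    intro g
    have h1 := h.toTwo.indep (α := ka ι n (g.1 0 0) * p + ka ι n (g.1 0 1) * r -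
        (p * ka ι n ((σ g).1 0 0) + q * ka ι n ((σ g).1 1 0)))
      (β := ka ι n (g.1 1 0) * p + ka ι n (g.1 1 1) * r -
        (r * ka ι n ((σ g).1 0 0) + s * ka ι n ((σ g).1 1 0))) (by
        have h3 := sub_eq_zero.2 (E0 g)
        rw [← h3]
        module)
    exact ⟨sub_eq_zero.1 h1.1, sub_eq_zero.1 h1.2⟩
  have key' : ∀ g : SpecialLinearGroup (Fin 2) K,
      (ka ι n (g.1 0 0) * q + ka ι n (g.1 0 1) * s = p * ka ι n ((σ g).1 0 1) + q * ka ι n ((σ g).1 1 1)) ∧
      (ka ι n (g.1 1 0) * q + ka ι n (g.1 1 1) * s = r * ka ι n ((σ g).1 0 1) + s * ka ι n ((σ g).1 1 1)) := by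
    intro g
    have h1 := h.toTwo.indep (α := ka ι n (g.1 0 0) * q + ka ι n (g.1 0 1) * s -
        (p * ka ι n ((σ g).1 0 1) + q * ka ι n ((σ g).1 1 1)))
      (β := ka ι n (g.1 1 0) * q + ka ι n (g.1 1 1) * s -
        (r * ka ι n ((σ g).1 0 1) + s * ka ι n ((σ g).1 1 1))) (by
        have h3 := sub_eq_zero.2 (E1 g)
        rw [← h3]
        module)
    exact ⟨sub_eq_zero.1 h1.1, sub_eq_zero.1 h1.2⟩
  obtain ⟨t, ht⟩ := sk_noether (ka ι n) hD σ (fun g => (key g).1) (fun g => (key' g).1) (fun g => (key g).2)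
    fun g => (key' g).2
  have hc : φ (pq t) * m = 1 := by
    refine hcfg.max.cent _ fun z => ?_
    obtain ⟨g, rfl⟩ := pq_surjective z
    have h3 : φ (pq g) * φ (pq t) = φ (pq t) * (m * φ (pq g) * m⁻¹) := by
      rw [← hσ, ← map_mul, ← map_mul, ← map_mul, ← map_mul, ht]
    calc φ (pq g) * (φ (pq t) * m) = (φ (pq g) * φ (pq t)) * m := by group
      _ = φ (pq t) * (m * φ (pq g) * m⁻¹) * m := by rw [h3]
      _ = _ := by group
  refine ⟨(pq t)⁻¹, ?_⟩
  rw [map_inv]
  exact inv_eq_of_mul_eq_one_right hc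

end cfg

end Cfsg.Agent.R2.F4P
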